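import Groth.Agent.An.H579.RetCov
import Mathlib.Analysis.Calculus.FDeriv.Congr

/-!
# Holomorphic functions of moderate growth on a finite covering of `ℂ ∖ S`, `S` finite
-/

set_option autoImplicit false

open Set Topology Metric

namespace Groth.Agent.An.H579.RetCov

variable {Y : Type} [TopologicalSpace Y]

/-- holomorphic along local sections -/
def FinCov.Hol {S : Set ℂ} {p : Y → ℂ} (h : FinCov S p) (F : Y → ℂ) : Prop :=
  ∀ y, DifferentiableAt ℂ (F ∘ h.sec y) (p y)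

/-- the weight `(1+|z|) ∏ (1 + 1/|z-s|)` -/
noncomputable def wt (S : Finset ℂ) (z : ℂ) : ℝ := (1 + ‖z‖) * ∏ s ∈ S, (1 + ‖z - s‖⁻¹)

/-- moderate growth -/
def Mod (S : Finset ℂ) (p : Y → ℂ) (F : Y → ℂ) : Prop :=
  ∃ (K : ℝ) (N : ℕ), ∀ y, ‖F y‖ ≤ K * wt S (p y) ^ N

/-- holomorphic functions of moderate growth separate the points of the fibres. -/
def FinCov.SEP {S : Finset ℂ} {p : Y → ℂ} (h : FinCov (S : Set ℂ) p) : Prop :=
  ∀ y₁ : Y, ∃ F : Y → ℂ, h.Hol F ∧ Mod S p F ∧ F y₁ = 1 ∧ ∀ y, p y = p y₁ → y ≠ y₁ → F y = 0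

namespace FinCov

variable {S : Set ℂ} {p : Y → ℂ} (h : FinCov S p)

lemma Hol.comp_sec {h : FinCov S p} {F : Y → ℂ} (hF : h.Hol F) {D : Set ℂ} (hD : IsOpen D)
    {σ : ℂ → Y} (hσ : IsSec p D σ) {z : ℂ} (hz : z ∈ D) : DifferentiableAt ℂ (F ∘ σ) z := by
  have h1 := hF (σ z)
  rw [hσ.sec z hz] at h1
  exact h1.congr_of_eventuallyEq ((h.eventuallyEq_sec hD hσ hz).fun_comp F).symm

/-- `F` is holomorphic iff it is holomorphic along all sections over open sets. -/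
lemma hol_iff {F : Y → ℂ} : h.Hol F ↔ ∀ (D : Set ℂ) (σ : ℂ → Y), IsOpen D → IsSec p D σ →
    DifferentiableOn ℂ (F ∘ σ) D := by
  constructor
  · intro hF D σ hD hσ z hz
    exact (hF.comp_sec hD hσ hz).differentiableWithinAt
  · intro hF y
    obtain ⟨r, hr, -, hs⟩ := h.exists_isSec_sec y
    exact (hF _ _ isOpen_ball hs).differentiableAt (ball_mem_nhds _ hr)

end FinCov

end Groth.Agent.An.H579.RetCov
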