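import Groth.Agent.An.H579.RetEt
import Groth.Agent.An.H410.Sep

/-!
# Riemann's existence theorem for `ℂ ∖ S`, `S` finite

For a finite covering `p : Y → ℂ ∖ S` the algebra `B` of holomorphic functions of moderate growth
on `Y` is finite étale over the localization `A` of `ℂ[X]` at `∏ (X - s)` and `Y` is homeomorphic
to the space of `ℂ`-algebra homomorphisms `B → ℂ`.
-/

set_option autoImplicit false

open Set Topology Metric Polynomial Filter

namespace Groth.Agent.An.H579.RetCov

variable {Y : Type} [TopologicalSpace Y]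

namespace FinCov

variable {S : Finset ℂ} {p : Y → ℂ} (h : FinCov (S : Set ℂ) p)
variable (A : Type) [CommRing A] [Algebra ℂ[X] A] [IsLocalization.Away (PS S) A]

theorem finite : letI := h.algebraAlg A; Module.Finite A h.alg :=
  finite_alg A (Groth.Agent.An.H410.Sep.sep h)

theorem etale : letI := h.algebraAlg A; Algebra.Etale A h.alg :=
  etale_alg A (Groth.Agent.An.H410.Sep.sep h)

theorem evY_bijective : Function.Bijective (evY (h := h)) :=
  ⟨evY_injective (Groth.Agent.An.H410.Sep.sep h), evY_surjective (Groth.Agent.An.H410.Sep.sep h)⟩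

theorem isInducing : IsInducing (fun (y : Y) (b : h.alg) => (b : Y → ℂ) y) :=
  isInducing_evY (Groth.Agent.An.H410.Sep.sep h)

end FinCov

/-- **Riemann's existence theorem** for finite coverings of `ℂ ∖ S`. -/
theorem RE1 {S : Finset ℂ} {p : Y → ℂ} (h : FinCov (S : Set ℂ) p)
    (A : Type) [CommRing A] [Algebra ℂ[X] A] [IsLocalization.Away (PS S) A] :
    ∃ (B : Type) (_ : CommRing B) (_ : Algebra A B) (e : Y → B →+* ℂ),
      Module.Finite A B ∧ Algebra.Etale A B ∧
      (∀ y, (e y).comp (algebraMap A B) = ev S A (p y) (h.notMem y)) ∧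
      (∀ φ : B →+* ℂ, (∀ c : ℂ, φ (algebraMap A B (algebraMap ℂ[X] A (C c))) = c) →
        ∃! y, e y = φ) ∧
      IsInducing (fun (y : Y) (b : B) => e y b) := by
  letI := h.algebraAlg A
  refine ⟨h.alg, inferInstance, inferInstance, fun y => (FinCov.evY (h := h) y : h.alg →+* ℂ),
    h.finite A, h.etale A, ?_, ?_, ?_⟩
  · intro y
    refine RingHom.ext fun a => ?_
    exact h.structMap_apply A a y
  · intro φ hφ
    have h1 : ∀ c : ℂ, φ (algebraMap ℂ h.alg c) = c := by
      intro c
      have h2 : algebraMap A h.alg (algebraMap ℂ[X] A (C c)) = algebraMap ℂ h.alg c := by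
        change h.structMap A (algebraMap ℂ[X] A (C c)) = _
        rw [h.structMap_algebraMap, aeval_C]
      rw [← h2]
      exact hφ c
    let ψ : h.alg →ₐ[ℂ] ℂ := { φ with commutes' := h1 }
    obtain ⟨y, hy⟩ := h.evY_bijective.2 ψ
    refine ⟨y, ?_, ?_⟩
    · refine RingHom.ext fun b => ?_
      exact congrArg (fun f => f b) hy
    · intro y' hy'
      refine h.evY_bijective.1 ?_
      rw [hy]
      refine AlgHom.ext fun b => ?_
      exact congrArg (fun f => f b) hy'
  · exact h.isInducing

end Groth.Agent.An.H579.RetCov
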