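import Mathlib.RingTheory.Unramified.Finite
import Mathlib.RingTheory.Smooth.Fiber
import Mathlib.RingTheory.Finiteness.Projective

/-!
# An étaleness criterion by dual bases

If `τ : B → A` is `A`-linear and `e i, f i ∈ B` satisfy `b = ∑ τ (b f i) e i` and `∑ e i f i = 1`
then `B` is finite étale over the Noetherian ring `A`.
-/

set_option autoImplicit false

open TensorProduct

namespace Groth.Agent.An.H579.EtAlg

variable {A B ι : Type*} [CommRing A] [CommRing B] [Algebra A B] [Fintype ι]
  (τ : B →ₗ[A] A) (e f : ι → B)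

include τ in
theorem finite_of_dual (h : ∀ b, b = ∑ i, τ (b * f i) • e i) : Module.Finite A B := by
  refine Module.Finite.of_surjective (Fintype.linearCombination A e) ?_
  intro b
  exact ⟨fun i => τ (b * f i), by rw [Fintype.linearCombination_apply]; exact (h b).symm⟩

include τ in
theorem projective_of_dual (h : ∀ b, b = ∑ i, τ (b * f i) • e i) : Module.Projective A B := by
  refine Module.Projective.of_split (M := ι → A)
    (LinearMap.pi fun i => τ.comp (LinearMap.mulRight A (f i)))
    (Fintype.linearCombination A e) ?_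
  refine LinearMap.ext fun b => ?_
  rw [LinearMap.comp_apply, Fintype.linearCombination_apply, LinearMap.id_apply]
  exact (h b).symm

theorem sep_eq (h : ∀ b, b = ∑ i, τ (b * f i) • e i) (s : B) :
    ∑ i, (e i) ⊗ₜ[A] (s * f i) = ∑ i, (s * e i) ⊗ₜ[A] (f i) := by
  have h1 : ∑ i, (e i) ⊗ₜ[A] (s * f i) = ∑ i, ∑ j, τ (s * f i * f j) • ((e i) ⊗ₜ[A] (e j)) := by
    refine Finset.sum_congr rfl fun i _ => ?_
    conv_lhs => rw [h (s * f i)]
    rw [tmul_sum]
    exact Finset.sum_congr rfl fun j _ => by rw [tmul_smul]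
  have h2 : ∑ i, (s * e i) ⊗ₜ[A] (f i) = ∑ k, (s * f k) ⊗ₜ[A] (e k) := by
    have h3 : ∀ i, (s * e i) ⊗ₜ[A] (f i) = ∑ k, (τ (f k * f i) • (s * e i)) ⊗ₜ[A] (e k) := by
      intro i
      conv_lhs => rw [h (f i)]
      rw [tmul_sum]
      exact Finset.sum_congr rfl fun k _ => by rw [tmul_smul, smul_tmul', mul_comm (f i)]
    rw [Finset.sum_congr rfl fun i _ => h3 i, Finset.sum_comm]
    refine Finset.sum_congr rfl fun k _ => ?_
    rw [← sum_tmul]
    congr 1
    conv_rhs => rw [h (f k)]
    rw [Finset.mul_sum]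
    exact Finset.sum_congr rfl fun i _ => by rw [mul_smul_comm]
  have h4 : ∑ k, (s * f k) ⊗ₜ[A] (e k) = ∑ k, ∑ j, τ (s * f k * f j) • ((e j) ⊗ₜ[A] (e k)) := by
    refine Finset.sum_congr rfl fun k _ => ?_
    conv_lhs => rw [h (s * f k)]
    rw [sum_tmul]
    exact Finset.sum_congr rfl fun j _ => by rw [smul_tmul']
  rw [h1, h2, h4, Finset.sum_comm]
  refine Finset.sum_congr rfl fun i _ => Finset.sum_congr rfl fun j _ => ?_
  rw [mul_right_comm]

include τ in
theorem etale_of_dual [IsNoetherianRing A] (h : ∀ b, b = ∑ i, τ (b * f i) • e i)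
    (h1 : ∑ i, e i * f i = 1) : Algebra.Etale A B := by
  have hfin := finite_of_dual τ e f h
  have hproj := projective_of_dual τ e f h
  have hur : Algebra.FormallyUnramified A B := by
    rw [Algebra.FormallyUnramified.iff_exists_tensorProduct]
    refine ⟨∑ i, (e i) ⊗ₜ[A] (f i), fun s => ?_, ?_⟩
    · rw [sub_mul, Finset.mul_sum, Finset.mul_sum, sub_eq_zero]
      simp only [Algebra.TensorProduct.tmul_mul_tmul, one_mul]
      exact sep_eq τ e f h s
    · rw [map_sum]
      simpa using h1
  have : Algebra.FinitePresentation A B :=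
    Algebra.FinitePresentation.of_finiteType.mp inferInstance
  exact Algebra.Etale.of_formallyUnramified_of_flat

end Groth.Agent.An.H579.EtAlg
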