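import Mathlib.Analysis.Complex.Conformal
import Mathlib.Analysis.Calculus.FDeriv.Symmetric
import Mathlib.Analysis.Calculus.LineDeriv.IntegrationByParts
import Mathlib.Analysis.Calculus.ContDiff.RCLike
import Mathlib.MeasureTheory.Measure.Lebesgue.Complex

/-!
# Wirtinger derivatives
-/

set_option autoImplicit false

open Set Topology Metric Complex MeasureTheory
open scoped ComplexConjugate ContDiff

namespace Groth.Agent.An.H579.Wirt

/-- `∂f/∂z` -/
noncomputable def dz (f : ℂ → ℂ) (z : ℂ) : ℂ := (fderiv ℝ f z 1 - I * fderiv ℝ f z I) / 2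

/-- `∂f/∂z̄` -/
noncomputable def db (f : ℂ → ℂ) (z : ℂ) : ℂ := (fderiv ℝ f z 1 + I * fderiv ℝ f z I) / 2

variable {f g : ℂ → ℂ} {z : ℂ}

lemma dz_congr (h : f =ᶠ[𝓝 z] g) : dz f z = dz g z := by
  simp only [dz, h.fderiv_eq]

lemma db_congr (h : f =ᶠ[𝓝 z] g) : db f z = db g z := by
  simp only [db, h.fderiv_eq]

lemma dz_eventuallyEq (h : f =ᶠ[𝓝 z] g) : dz f =ᶠ[𝓝 z] dz g := by
  filter_upwards [h.eventuallyEq_nhds] with w hw using dz_congr hw

lemma db_eventuallyEq (h : f =ᶠ[𝓝 z] g) : db f =ᶠ[𝓝 z] db g := by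
  filter_upwards [h.eventuallyEq_nhds] with w hw using db_congr hw

lemma dz_add (hf : DifferentiableAt ℝ f z) (hg : DifferentiableAt ℝ g z) :
    dz (fun w => f w + g w) z = dz f z + dz g z := by
  have : fderiv ℝ (fun w => f w + g w) z = fderiv ℝ f z + fderiv ℝ g z := fderiv_fun_add hf hg
  simp only [dz, this, _root_.add_apply]
  ring

lemma db_add (hf : DifferentiableAt ℝ f z) (hg : DifferentiableAt ℝ g z) :
    db (fun w => f w + g w) z = db f z + db g z := by
  have : fderiv ℝ (fun w => f w + g w) z = fderiv ℝ f z + fderiv ℝ g z := fderiv_fun_add hf hg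
  simp only [db, this, _root_.add_apply]
  ring

lemma dz_neg : dz (fun w => - f w) z = - dz f z := by
  have : fderiv ℝ (fun w => - f w) z = - fderiv ℝ f z := fderiv_fun_neg
  simp only [dz, this, _root_.neg_apply]
  ring

lemma db_neg : db (fun w => - f w) z = - db f z := by
  have : fderiv ℝ (fun w => - f w) z = - fderiv ℝ f z := fderiv_fun_neg
  simp only [db, this, _root_.neg_apply]
  ring

lemma dz_mul (hf : DifferentiableAt ℝ f z) (hg : DifferentiableAt ℝ g z) :
    dz (fun w => f w * g w) z = dz f z * g z + f z * dz g z := by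
  have : fderiv ℝ (fun w => f w * g w) z = f z • fderiv ℝ g z + g z • fderiv ℝ f z :=
    fderiv_fun_mul hf hg
  simp only [dz, this, _root_.add_apply, FunLike.coe_smul, Pi.smul_apply, smul_eq_mul]
  ring

lemma db_mul (hf : DifferentiableAt ℝ f z) (hg : DifferentiableAt ℝ g z) :
    db (fun w => f w * g w) z = db f z * g z + f z * db g z := by
  have : fderiv ℝ (fun w => f w * g w) z = f z • fderiv ℝ g z + g z • fderiv ℝ f z :=
    fderiv_fun_mul hf hg
  simp only [db, this, _root_.add_apply, FunLike.coe_smul, Pi.smul_apply, smul_eq_mul]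
  ring

lemma fderiv_conj (hf : DifferentiableAt ℝ f z) (v : ℂ) :
    fderiv ℝ (fun w => conj (f w)) z v = conj (fderiv ℝ f z v) := by
  have h : HasFDerivAt (fun w => conj (f w)) ((conjCLE : ℂ →L[ℝ] ℂ).comp (fderiv ℝ f z)) z :=
    (conjCLE : ℂ →L[ℝ] ℂ).hasFDerivAt.comp z hf.hasFDerivAt
  rw [h.fderiv]
  rfl

lemma dz_conj (hf : DifferentiableAt ℝ f z) : dz (fun w => conj (f w)) z = conj (db f z) := by
  simp only [dz, db, fderiv_conj hf, map_div₀, map_add, map_mul, conj_I, map_ofNat]
  ring

lemma db_conj (hf : DifferentiableAt ℝ f z) : db (fun w => conj (f w)) z = conj (dz f z) := by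
  simp only [dz, db, fderiv_conj hf, map_div₀, map_sub, map_mul, conj_I, map_ofNat]
  ring

lemma contDiffAt_fderiv_apply (hf : ContDiffAt ℝ ∞ f z) (v : ℂ) :
    ContDiffAt ℝ ∞ (fun w => fderiv ℝ f w v) z :=
  (hf.fderiv_right (m := ∞) (by simp)).clm_apply contDiffAt_const

lemma contDiffAt_dz (hf : ContDiffAt ℝ ∞ f z) : ContDiffAt ℝ ∞ (dz f) z := by
  unfold dz
  exact ((contDiffAt_fderiv_apply hf 1).sub
    (contDiffAt_const.mul (contDiffAt_fderiv_apply hf I))).div_const 2

lemma contDiffAt_db (hf : ContDiffAt ℝ ∞ f z) : ContDiffAt ℝ ∞ (db f) z := by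
  unfold db
  exact ((contDiffAt_fderiv_apply hf 1).add
    (contDiffAt_const.mul (contDiffAt_fderiv_apply hf I))).div_const 2

lemma diffAt (hf : ContDiffAt ℝ ∞ f z) : DifferentiableAt ℝ f z :=
  hf.differentiableAt (by simp)

lemma fderiv_fderiv_apply (hf : ContDiffAt ℝ ∞ f z) (v w : ℂ) :
    fderiv ℝ (fun x => fderiv ℝ f x v) z w = fderiv ℝ (fderiv ℝ f) z w v := by
  have h1 : DifferentiableAt ℝ (fderiv ℝ f) z :=
    (hf.fderiv_right (m := ∞) (by simp)).differentiableAt (by simp)
  have := (h1.hasFDerivAt.clm_apply (hasFDerivAt_const v z)).fderiv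
  rw [this]
  simp

lemma fderiv_comm (hf : ContDiffAt ℝ ∞ f z) (v w : ℂ) :
    fderiv ℝ (fun x => fderiv ℝ f x v) z w = fderiv ℝ (fun x => fderiv ℝ f x w) z v := by
  rw [fderiv_fderiv_apply hf, fderiv_fderiv_apply hf]
  exact hf.isSymmSndFDerivAt (by
    rw [minSmoothness_of_isRCLikeNormedField]
    exact WithTop.coe_le_coe.2 le_top) w v

lemma dz_db_comm (hf : ContDiffAt ℝ ∞ f z) : dz (db f) z = db (dz f) z := by
  have h1 := diffAt (contDiffAt_fderiv_apply hf 1)
  have hI := diffAt (contDiffAt_fderiv_apply hf I)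
  have hI' : DifferentiableAt ℝ (fun w => I * fderiv ℝ f w I) z :=
    (differentiableAt_const _).mul hI
  have e1 : ∀ v : ℂ, fderiv ℝ (db f) z v =
      (fderiv ℝ (fun x => fderiv ℝ f x 1) z v + I * fderiv ℝ (fun x => fderiv ℝ f x I) z v) / 2 := by
    intro v
    have h := ((h1.hasFDerivAt.add (hI.hasFDerivAt.const_mul I)).mul_const (2 : ℂ)⁻¹).fderiv
    have hf' : db f = fun y => ((fderiv ℝ f y) 1 + I * (fderiv ℝ f y) I) * 2⁻¹ := by
      funext y
      simp [db, div_eq_mul_inv]
    rw [hf']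
    refine (congrArg (fun L => L v) h).trans ?_
    simp [div_eq_mul_inv]
    ring
  have e2 : ∀ v : ℂ, fderiv ℝ (dz f) z v =
      (fderiv ℝ (fun x => fderiv ℝ f x 1) z v - I * fderiv ℝ (fun x => fderiv ℝ f x I) z v) / 2 := by
    intro v
    have h := ((h1.hasFDerivAt.sub (hI.hasFDerivAt.const_mul I)).mul_const (2 : ℂ)⁻¹).fderiv
    have hf' : dz f = fun y => ((fderiv ℝ f y) 1 - I * (fderiv ℝ f y) I) * 2⁻¹ := by
      funext y
      simp [dz, div_eq_mul_inv]
    rw [hf']
    refine (congrArg (fun L => L v) h).trans ?_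
    simp [div_eq_mul_inv]
    ring
  change ((fderiv ℝ (db f) z) 1 - I * (fderiv ℝ (db f) z) I) / 2 =
    ((fderiv ℝ (dz f) z) 1 + I * (fderiv ℝ (dz f) z) I) / 2
  rw [e1, e1, e2, e2, fderiv_comm hf I 1]
  ring

lemma db_eq_zero (hf : DifferentiableAt ℂ f z) : db f z = 0 := by
  have h := (differentiableAt_complex_iff_differentiableAt_real.1 hf).2
  rw [db, h, smul_eq_mul, ← mul_assoc, I_mul_I]
  ring

lemma differentiableAt_of_db_eq_zero (hf : DifferentiableAt ℝ f z) (h : db f z = 0) :
    DifferentiableAt ℂ f z := by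
  refine differentiableAt_complex_iff_differentiableAt_real.2 ⟨hf, ?_⟩
  have h1 : fderiv ℝ f z 1 + I * fderiv ℝ f z I = 0 := by
    have := congrArg (· * 2) h
    simpa [db] using this
  have h2 : fderiv ℝ f z 1 = - (I * fderiv ℝ f z I) := eq_neg_of_add_eq_zero_left h1
  rw [smul_eq_mul, h2, mul_neg, ← mul_assoc, I_mul_I]
  ring

lemma dz_id : dz (fun w => w) z = 1 := by
  simp only [dz]
  rw [fderiv_fun_id]
  simp

lemma db_id : db (fun w => w) z = 0 := db_eq_zero differentiableAt_id

lemma db_star : db (fun w => conj w) z = 1 := by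
  rw [db_conj (f := fun w => w) differentiableAt_id, dz_id, map_one]

lemma dz_star : dz (fun w => conj w) z = 0 := by
  rw [dz_conj (f := fun w => w) differentiableAt_id, db_id, map_zero]

lemma db_const (c : ℂ) : db (fun _ => c) z = 0 := db_eq_zero (differentiableAt_const c)

lemma dz_const (c : ℂ) : dz (fun _ => c) z = 0 := by
  simp [dz]

/-- integral of a derivative of a compactly supported function -/
lemma integral_fderiv_eq_zero {g : ℂ → ℂ} (hg : ContDiff ℝ ∞ g) (hc : HasCompactSupport g) (v : ℂ) :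
    ∫ x, fderiv ℝ g x v = 0 := by
  have hcg : Continuous g := hg.continuous
  have hcf : Continuous (fun x => fderiv ℝ g x v) :=
    (hg.continuous_fderiv (by simp)).clm_apply continuous_const
  have hsf : HasCompactSupport (fun x => fderiv ℝ g x v) := hc.fderiv_apply ℝ v
  have h1 : Integrable (fun x => fderiv ℝ g x v) := hcf.integrable_of_hasCompactSupport hsf
  have h2 : Integrable g := hcg.integrable_of_hasCompactSupport hc
  have := integral_mul_fderiv_eq_neg_fderiv_mul_of_integrable (μ := volume) (f := fun _ : ℂ => (1 : ℂ))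
    (g := g) (v := v) (by simp) (by simpa using h1) (by simpa using h2)
    (fun _ _ => differentiableAt_const _) (fun x _ => hg.differentiable (by simp) x)
  simpa using this

lemma integral_dz_eq_zero {g : ℂ → ℂ} (hg : ContDiff ℝ ∞ g) (hc : HasCompactSupport g) :
    ∫ x, dz g x = 0 := by
  have hcf : ∀ v : ℂ, Integrable (fun x => fderiv ℝ g x v) := fun v =>
    ((hg.continuous_fderiv (by simp)).clm_apply continuous_const).integrable_of_hasCompactSupport
      (hc.fderiv_apply ℝ v)
  unfold dz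
  rw [integral_div, integral_sub (hcf 1) ((hcf I).const_mul I), integral_const_mul,
    integral_fderiv_eq_zero hg hc, integral_fderiv_eq_zero hg hc]
  simp

lemma integral_db_eq_zero {g : ℂ → ℂ} (hg : ContDiff ℝ ∞ g) (hc : HasCompactSupport g) :
    ∫ x, db g x = 0 := by
  have hcf : ∀ v : ℂ, Integrable (fun x => fderiv ℝ g x v) := fun v =>
    ((hg.continuous_fderiv (by simp)).clm_apply continuous_const).integrable_of_hasCompactSupport
      (hc.fderiv_apply ℝ v)
  unfold db
  rw [integral_div, integral_add (hcf 1) ((hcf I).const_mul I), integral_const_mul,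
    integral_fderiv_eq_zero hg hc, integral_fderiv_eq_zero hg hc]
  simp

/-- the weight `1/(1+|z|²)` -/
noncomputable def w (z : ℂ) : ℂ := (1 + z * conj z)⁻¹

lemma one_add_ne_zero (z : ℂ) : (1 + z * conj z : ℂ) ≠ 0 := by
  rw [mul_conj]
  have h : (0 : ℝ) < 1 + normSq z := by
    have := normSq_nonneg z
    linarith
  exact_mod_cast h.ne'

lemma w_eq (z : ℂ) : w z = ((1 + ‖z‖ ^ 2 : ℝ) : ℂ)⁻¹ := by
  rw [w, mul_conj, normSq_eq_norm_sq]
  push_cast
  rfl

lemma conj_w (z : ℂ) : conj (w z) = w z := by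
  rw [w_eq, ← ofReal_inv, conj_ofReal]

lemma contDiff_conj : ContDiff ℝ ∞ (fun z : ℂ => conj z) := (conjCLE : ℂ →L[ℝ] ℂ).contDiff

lemma contDiff_w : ContDiff ℝ ∞ w := by
  unfold w
  exact (contDiff_const.add (contDiff_id.mul contDiff_conj)).inv one_add_ne_zero

lemma db_mul_conj : db (fun z => 1 + z * conj z) z = z := by
  have h1 : DifferentiableAt ℝ (fun z : ℂ => z * conj z) z :=
    (contDiff_id.mul contDiff_conj).contDiffAt.differentiableAt (n := ∞) (by simp)
  rw [db_add (differentiableAt_const _) h1, db_const,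
    db_mul (f := fun w => w) differentiableAt_id (diffAt contDiff_conj.contDiffAt), db_star, db_id]
  simp

lemma db_w : db w z = - (z * w z ^ 2) := by
  have h1 : DifferentiableAt ℝ (fun z : ℂ => 1 + z * conj z) z :=
    (contDiff_const.add (contDiff_id.mul contDiff_conj)).contDiffAt.differentiableAt (n := ∞)
      (by simp)
  have h2 : db (fun z => w z * (1 + z * conj z)) z = 0 := by
    have : (fun z => w z * (1 + z * conj z)) = fun _ => (1 : ℂ) := by
      funext z
      exact inv_mul_cancel₀ (one_add_ne_zero z)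
    rw [this, db_const]
  rw [db_mul (diffAt contDiff_w.contDiffAt) h1, db_mul_conj] at h2
  have h3 : w z * (1 + z * conj z) = 1 := inv_mul_cancel₀ (one_add_ne_zero z)
  calc db w z = db w z * (w z * (1 + z * conj z)) := by rw [h3, mul_one]
    _ = w z * (db w z * (1 + z * conj z)) := by ring
    _ = w z * (- (w z * z)) := by rw [eq_neg_of_add_eq_zero_left h2]
    _ = _ := by ring

lemma dz_w : dz w z = - (conj z * w z ^ 2) := by
  have h : (fun z => conj (w z)) = w := funext conj_w
  have := dz_conj (f := w) (z := z) (diffAt contDiff_w.contDiffAt)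
  rw [h, db_w] at this
  rw [this, map_neg, map_mul, map_pow, conj_w]

lemma dz_sum {ι : Type*} (s : Finset ι) {f : ι → ℂ → ℂ} {z : ℂ}
    (hf : ∀ i ∈ s, ContDiffAt ℝ ∞ (f i) z) :
    dz (fun w => ∑ i ∈ s, f i w) z = ∑ i ∈ s, dz (f i) z := by
  classical
  induction s using Finset.induction_on with
  | empty => simpa using dz_const 0
  | insert a s ha ih =>
    simp only [Finset.sum_insert ha]
    rw [dz_add (diffAt (hf a (Finset.mem_insert_self a s)))
      (diffAt (ContDiffAt.sum fun i hi => hf i (Finset.mem_insert_of_mem hi))),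
      ih fun i hi => hf i (Finset.mem_insert_of_mem hi)]

lemma db_sum {ι : Type*} (s : Finset ι) {f : ι → ℂ → ℂ} {z : ℂ}
    (hf : ∀ i ∈ s, ContDiffAt ℝ ∞ (f i) z) :
    db (fun w => ∑ i ∈ s, f i w) z = ∑ i ∈ s, db (f i) z := by
  classical
  induction s using Finset.induction_on with
  | empty => simpa using db_const 0
  | insert a s ha ih =>
    simp only [Finset.sum_insert ha]
    rw [db_add (diffAt (hf a (Finset.mem_insert_self a s)))
      (diffAt (ContDiffAt.sum fun i hi => hf i (Finset.mem_insert_of_mem hi))),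
      ih fun i hi => hf i (Finset.mem_insert_of_mem hi)]

end Groth.Agent.An.H579.Wirt
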