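import Groth.Agent.An.H579.RetCov
import Groth.Agent.An.H579.Wirt

/-!
# Smooth functions and fibre sums on a covering of `ℂ ∖ S`
-/

set_option autoImplicit false

open Set Topology Metric Complex MeasureTheory Filter
open scoped ComplexConjugate ContDiff

namespace Groth.Agent.An.H579.RetCov

open Groth.Agent.An.H579.Wirt

variable {Y : Type} [TopologicalSpace Y] {S : Set ℂ} {p : Y → ℂ}

namespace FinCov

variable (h : FinCov S p)
include h

/-- sum over the fibre -/
noncomputable def push {M : Type*} [AddCommMonoid M] (β : Y → M) (z : ℂ) : M :=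
  ∑ y ∈ (h.fin z).toFinset, β y

lemma mem_fib {z : ℂ} {y : Y} : y ∈ (h.fin z).toFinset ↔ p y = z := by
  simp

lemma push_eq_zero_of_forall {M : Type*} [AddCommMonoid M] {β : Y → M} {z : ℂ}
    (hz : ∀ y, p y = z → β y = 0) : h.push β z = 0 :=
  Finset.sum_eq_zero fun y hy => hz y (h.mem_fib.1 hy)

lemma support_push_subset {M : Type*} [AddCommMonoid M] (β : Y → M) :
    Function.support (h.push β) ⊆ p '' Function.support β := by
  intro z hz
  by_contra hc
  apply hz
  apply h.push_eq_zero_of_forall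
  intro y hy
  by_contra hy'
  exact hc ⟨y, hy', hy⟩

/-- a family of sections through the points of a fibre -/
lemma exists_secs {D : Set ℂ} (hD : IsOpen D) (hsc : IsSimplyConnected D) (hDS : D ⊆ Sᶜ) {z₀ : ℂ}
    (hz₀ : z₀ ∈ D) : ∃ σ : Y → ℂ → Y, ∀ y, p y = z₀ → IsSec p D (σ y) ∧ σ y z₀ = y := by
  have : ∀ y, ∃ σ : ℂ → Y, p y = z₀ → IsSec p D σ ∧ σ z₀ = y := by
    intro y
    by_cases hy : p y = z₀
    · obtain ⟨σ, hσ, hs⟩ := h.exists_sec hD hsc hDS y (hy ▸ hz₀)
      exact ⟨σ, fun _ => ⟨hσ, hy ▸ hs⟩⟩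
    · exact ⟨fun _ => y, fun h => absurd h hy⟩
  choose σ hσ using this
  exact ⟨σ, hσ⟩

lemma push_eq_sum {D : Set ℂ} (hD : IsOpen D) (hsc : IsSimplyConnected D) (hDS : D ⊆ Sᶜ) {z₀ : ℂ}
    (hz₀ : z₀ ∈ D) {σ : Y → ℂ → Y} (hσ : ∀ y, p y = z₀ → IsSec p D (σ y) ∧ σ y z₀ = y) {z : ℂ}
    (hz : z ∈ D) {M : Type*} [AddCommMonoid M] (β : Y → M) :
    h.push β z = ∑ y ∈ (h.fin z₀).toFinset, β (σ y z) := by
  symm
  have hDc : IsPreconnected D := hsc.isPathConnected.isConnected.isPreconnected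
  refine Finset.sum_bij (fun y _ => σ y z) ?_ ?_ ?_ ?_
  · intro y hy
    rw [h.mem_fib] at hy ⊢
    exact (hσ y hy).1.sec z hz
  · intro y hy y' hy' e
    rw [h.mem_fib] at hy hy'
    have := h.eqOn_of_isSec hDc (hσ y hy).1 (hσ y' hy').1 hz e hz₀
    rwa [(hσ y hy).2, (hσ y' hy').2] at this
  · intro y' hy'
    rw [h.mem_fib] at hy'
    obtain ⟨τ, hτ, hs⟩ := h.exists_sec hD hsc hDS y' (hy' ▸ hz)
    have hp : p (τ z₀) = z₀ := hτ.sec z₀ hz₀
    refine ⟨τ z₀, h.mem_fib.2 hp, ?_⟩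
    have := h.eqOn_of_isSec hDc (hσ _ hp).1 hτ hz₀ (hσ _ hp).2 hz
    rw [this, ← hy', hs]
  · intro y _
    rfl

lemma push_eventuallyEq {z₀ : ℂ} (hz₀ : z₀ ∉ S) {M : Type*} [AddCommMonoid M] (β : Y → M) :
    h.push β =ᶠ[𝓝 z₀] fun z => ∑ y ∈ (h.fin z₀).toFinset, β (h.sec y z) := by
  obtain ⟨r, hr, hb⟩ := Metric.isOpen_iff.1 h.closed.isOpen_compl z₀ hz₀
  obtain ⟨σ, hσ⟩ := h.exists_secs isOpen_ball (isSimplyConnected_ball z₀ hr) hb
    (mem_ball_self hr)
  have h1 : ∀ y ∈ (h.fin z₀).toFinset, ∀ᶠ z in 𝓝 z₀, h.sec y z = σ y z := by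
    intro y hy
    rw [h.mem_fib] at hy
    have := h.eventuallyEq_sec isOpen_ball (hσ y hy).1 (mem_ball_self hr)
    rwa [(hσ y hy).2] at this
  filter_upwards [(Finset.eventually_all _).2 h1, ball_mem_nhds z₀ hr] with z hz hz'
  rw [h.push_eq_sum isOpen_ball (isSimplyConnected_ball z₀ hr) hb (mem_ball_self hr) hσ hz']
  exact Finset.sum_congr rfl fun y hy => by rw [hz y hy]

/-- smooth functions on `Y` -/
def Smooth (β : Y → ℂ) : Prop := ∀ y, ContDiffAt ℝ ∞ (β ∘ h.sec y) (p y)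

variable {h}
variable {β γ : Y → ℂ}

lemma Smooth.comp_sec (hβ : h.Smooth β) {D : Set ℂ} (hD : IsOpen D) {σ : ℂ → Y}
    (hσ : IsSec p D σ) {z : ℂ} (hz : z ∈ D) : ContDiffAt ℝ ∞ (β ∘ σ) z := by
  have h1 := hβ (σ z)
  rw [hσ.sec z hz] at h1
  exact h1.congr_of_eventuallyEq ((h.eventuallyEq_sec hD hσ hz).fun_comp β).symm

lemma Smooth.continuous (hβ : h.Smooth β) : Continuous β := by
  rw [continuous_iff_continuousAt]
  intro y
  obtain ⟨r, hr, -, hs⟩ := h.exists_isSec_sec y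
  have h1 : ContinuousAt (β ∘ h.sec y) (p y) := (hβ y).continuousAt
  have h2 : ContinuousAt ((β ∘ h.sec y) ∘ p) y :=
    ContinuousAt.comp (f := p) h1 h.continuous.continuousAt
  refine h2.congr ?_
  have ho := h.isOpen_image isOpen_ball hs
  have hy : y ∈ h.sec y '' ball (p y) r := ⟨p y, mem_ball_self hr, h.sec_self y⟩
  filter_upwards [ho.mem_nhds hy] with y' hy'
  rw [mem_image_iff hs] at hy'
  simp only [Function.comp_apply, hy'.2]

variable (h) in
/-- `∂` on `Y` -/
noncomputable def dzY (β : Y → ℂ) (y : Y) : ℂ := dz (β ∘ h.sec y) (p y)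

variable (h) in
/-- `∂̄` on `Y` -/
noncomputable def dbY (β : Y → ℂ) (y : Y) : ℂ := db (β ∘ h.sec y) (p y)

variable (h) in
lemma dzY_comp_sec {D : Set ℂ} (hD : IsOpen D) {σ : ℂ → Y}
    (hσ : IsSec p D σ) {z : ℂ} (hz : z ∈ D) (β : Y → ℂ) : h.dzY β (σ z) = dz (β ∘ σ) z := by
  unfold dzY
  rw [hσ.sec z hz]
  exact dz_congr ((h.eventuallyEq_sec hD hσ hz).fun_comp β)

variable (h) in
lemma dbY_comp_sec {D : Set ℂ} (hD : IsOpen D) {σ : ℂ → Y}
    (hσ : IsSec p D σ) {z : ℂ} (hz : z ∈ D) (β : Y → ℂ) : h.dbY β (σ z) = db (β ∘ σ) z := by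
  unfold dbY
  rw [hσ.sec z hz]
  exact db_congr ((h.eventuallyEq_sec hD hσ hz).fun_comp β)

variable (h) in
lemma dzY_sec_eventuallyEq (y : Y) (β : Y → ℂ) :
    h.dzY β ∘ h.sec y =ᶠ[𝓝 (p y)] dz (β ∘ h.sec y) := by
  obtain ⟨r, hr, -, hs⟩ := h.exists_isSec_sec y
  filter_upwards [ball_mem_nhds (p y) hr] with z hz
  exact h.dzY_comp_sec isOpen_ball hs hz β

variable (h) in
lemma dbY_sec_eventuallyEq (y : Y) (β : Y → ℂ) :
    h.dbY β ∘ h.sec y =ᶠ[𝓝 (p y)] db (β ∘ h.sec y) := by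
  obtain ⟨r, hr, -, hs⟩ := h.exists_isSec_sec y
  filter_upwards [ball_mem_nhds (p y) hr] with z hz
  exact h.dbY_comp_sec isOpen_ball hs hz β

lemma Smooth.dzY (hβ : h.Smooth β) : h.Smooth (h.dzY β) := fun y =>
  (contDiffAt_dz (hβ y)).congr_of_eventuallyEq (h.dzY_sec_eventuallyEq y β)

lemma Smooth.dbY (hβ : h.Smooth β) : h.Smooth (h.dbY β) := fun y =>
  (contDiffAt_db (hβ y)).congr_of_eventuallyEq (h.dbY_sec_eventuallyEq y β)

lemma Smooth.add (hβ : h.Smooth β) (hγ : h.Smooth γ) : h.Smooth (fun y => β y + γ y) :=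
  fun y => (hβ y).add (hγ y)

lemma Smooth.mul (hβ : h.Smooth β) (hγ : h.Smooth γ) : h.Smooth (fun y => β y * γ y) :=
  fun y => (hβ y).mul (hγ y)

lemma Smooth.neg (hβ : h.Smooth β) : h.Smooth (fun y => - β y) :=
  fun y => (hβ y).neg

lemma Smooth.conj (hβ : h.Smooth β) : h.Smooth (fun y => conj (β y)) :=
  fun y => (contDiff_conj.contDiffAt (x := (β ∘ h.sec y) (p y))).comp (p y) (hβ y)

variable (h) in
lemma comp_p_sec_eventuallyEq (y : Y) (f : ℂ → ℂ) :
    (fun y => f (p y)) ∘ h.sec y =ᶠ[𝓝 (p y)] f := by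
  obtain ⟨r, hr, -, hs⟩ := h.exists_isSec_sec y
  filter_upwards [ball_mem_nhds (p y) hr] with z hz
  simp only [Function.comp_apply, hs.sec z hz]

variable (h) in
lemma smooth_comp_p {f : ℂ → ℂ} (hf : ∀ z ∉ S, ContDiffAt ℝ ∞ f z) :
    h.Smooth (fun y => f (p y)) := fun y =>
  (hf (p y) (h.notMem y)).congr_of_eventuallyEq (h.comp_p_sec_eventuallyEq y f)

variable (h) in
lemma dzY_comp_p (f : ℂ → ℂ) (y : Y) : h.dzY (fun y => f (p y)) y = dz f (p y) :=
  dz_congr (h.comp_p_sec_eventuallyEq y f)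

variable (h) in
lemma dbY_comp_p (f : ℂ → ℂ) (y : Y) : h.dbY (fun y => f (p y)) y = db f (p y) :=
  db_congr (h.comp_p_sec_eventuallyEq y f)

lemma dzY_mul (hβ : h.Smooth β) (hγ : h.Smooth γ) (y : Y) :
    h.dzY (fun y => β y * γ y) y = h.dzY β y * γ y + β y * h.dzY γ y := by
  have := dz_mul (diffAt (hβ y)) (diffAt (hγ y))
  simp only [Function.comp_apply, h.sec_self] at this
  exact this

lemma dbY_mul (hβ : h.Smooth β) (hγ : h.Smooth γ) (y : Y) :
    h.dbY (fun y => β y * γ y) y = h.dbY β y * γ y + β y * h.dbY γ y := by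
  have := db_mul (diffAt (hβ y)) (diffAt (hγ y))
  simp only [Function.comp_apply, h.sec_self] at this
  exact this

lemma dzY_add (hβ : h.Smooth β) (hγ : h.Smooth γ) (y : Y) :
    h.dzY (fun y => β y + γ y) y = h.dzY β y + h.dzY γ y :=
  dz_add (diffAt (hβ y)) (diffAt (hγ y))

lemma dbY_add (hβ : h.Smooth β) (hγ : h.Smooth γ) (y : Y) :
    h.dbY (fun y => β y + γ y) y = h.dbY β y + h.dbY γ y :=
  db_add (diffAt (hβ y)) (diffAt (hγ y))

variable (h) in
lemma dzY_neg (β : Y → ℂ) (y : Y) : h.dzY (fun y => - β y) y = - h.dzY β y :=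
  dz_neg (f := β ∘ h.sec y)

variable (h) in
lemma dbY_neg (β : Y → ℂ) (y : Y) : h.dbY (fun y => - β y) y = - h.dbY β y :=
  db_neg (f := β ∘ h.sec y)

lemma dzY_conj (hβ : h.Smooth β) (y : Y) :
    h.dzY (fun y => conj (β y)) y = conj (h.dbY β y) :=
  dz_conj (diffAt (hβ y))

lemma dbY_conj (hβ : h.Smooth β) (y : Y) :
    h.dbY (fun y => conj (β y)) y = conj (h.dzY β y) :=
  db_conj (diffAt (hβ y))

lemma dzY_dbY_comm (hβ : h.Smooth β) (y : Y) : h.dzY (h.dbY β) y = h.dbY (h.dzY β) y := by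
  unfold dzY dbY
  have e1 := dz_congr (h.dbY_sec_eventuallyEq y β)
  have e2 := db_congr (h.dzY_sec_eventuallyEq y β)
  exact e1.trans ((dz_db_comm (hβ y)).trans e2.symm)

variable (h) in
lemma sec_tendsto (y : Y) : Tendsto (h.sec y) (𝓝 (p y)) (𝓝 y) := by
  obtain ⟨r, hr, -, hs⟩ := h.exists_isSec_sec y
  have := (hs.cont.continuousAt (ball_mem_nhds (p y) hr)).tendsto
  rwa [h.sec_self] at this

variable (h) in
lemma dzY_eq_zero_of_eventually {y : Y} (hy : β =ᶠ[𝓝 y] 0) : h.dzY β y = 0 := by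
  have : β ∘ h.sec y =ᶠ[𝓝 (p y)] fun _ => 0 := (h.sec_tendsto y).eventually hy
  exact (dz_congr this).trans (dz_const 0)

variable (h) in
lemma dbY_eq_zero_of_eventually {y : Y} (hy : β =ᶠ[𝓝 y] 0) : h.dbY β y = 0 := by
  have : β ∘ h.sec y =ᶠ[𝓝 (p y)] fun _ => 0 := (h.sec_tendsto y).eventually hy
  exact (db_congr this).trans (db_const 0)

variable (h) in
lemma support_dzY_subset (β : Y → ℂ) : Function.support (h.dzY β) ⊆ tsupport β := by
  intro y hy
  by_contra hc
  exact hy (h.dzY_eq_zero_of_eventually (notMem_tsupport_iff_eventuallyEq.1 hc))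

variable (h) in
lemma support_dbY_subset (β : Y → ℂ) : Function.support (h.dbY β) ⊆ tsupport β := by
  intro y hy
  by_contra hc
  exact hy (h.dbY_eq_zero_of_eventually (notMem_tsupport_iff_eventuallyEq.1 hc))

variable (h) in
lemma hasCompactSupport_dzY (hc : HasCompactSupport β) : HasCompactSupport (h.dzY β) :=
  hc.mono' (h.support_dzY_subset β)

variable (h) in
lemma hasCompactSupport_dbY (hc : HasCompactSupport β) : HasCompactSupport (h.dbY β) :=
  hc.mono' (h.support_dbY_subset β)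

variable (h) in
/-- fibre sums of compactly supported functions vanish near `S` -/
lemma push_eventuallyEq_zero {M : Type*} [AddCommMonoid M] {β : Y → M}
    {K : Set Y} (hK : IsCompact K) (hβ : Function.support β ⊆ K) {z : ℂ} (hz : z ∈ S) :
    h.push β =ᶠ[𝓝 z] 0 := by
  have hcl : IsClosed (p '' K) := (hK.image h.continuous).isClosed
  have hz' : z ∉ p '' K := by
    rintro ⟨y, -, rfl⟩
    exact h.notMem y hz
  filter_upwards [hcl.isOpen_compl.mem_nhds hz'] with x hx
  by_contra hne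
  exact hx (image_mono hβ (h.support_push_subset β hne))

variable (h) in
lemma push_hasCompactSupport (hc : HasCompactSupport β) :
    HasCompactSupport (h.push β) :=
  HasCompactSupport.intro (hc.isCompact.image h.continuous) fun z hz => by
    by_contra hne
    exact hz (image_mono (subset_tsupport β) (h.support_push_subset β hne))

lemma contDiff_push (hβ : h.Smooth β) (hc : HasCompactSupport β) : ContDiff ℝ ∞ (h.push β) := by
  rw [contDiff_iff_contDiffAt]
  intro z
  by_cases hz : z ∈ S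
  · exact contDiffAt_const.congr_of_eventuallyEq
      (h.push_eventuallyEq_zero hc.isCompact (subset_tsupport β) hz)
  · refine ContDiffAt.congr_of_eventuallyEq ?_ (h.push_eventuallyEq hz β)
    refine ContDiffAt.sum fun y hy => ?_
    rw [h.mem_fib] at hy
    have := hβ y
    rwa [hy] at this

lemma dz_push (hβ : h.Smooth β) (hc : HasCompactSupport β) (z : ℂ) :
    dz (h.push β) z = h.push (h.dzY β) z := by
  by_cases hz : z ∈ S
  · rw [dz_congr (h.push_eventuallyEq_zero hc.isCompact (subset_tsupport β) hz)]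
    rw [(h.push_eventuallyEq_zero hc.isCompact (h.support_dzY_subset β) hz).eq_of_nhds]
    exact dz_const 0
  · rw [dz_congr (h.push_eventuallyEq hz β), dz_sum]
    · unfold push
      refine Finset.sum_congr rfl fun y hy => ?_
      rw [h.mem_fib] at hy
      unfold dzY
      rw [hy]
      rfl
    · intro y hy
      rw [h.mem_fib] at hy
      have := hβ y
      rwa [hy] at this

lemma db_push (hβ : h.Smooth β) (hc : HasCompactSupport β) (z : ℂ) :
    db (h.push β) z = h.push (h.dbY β) z := by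
  by_cases hz : z ∈ S
  · rw [db_congr (h.push_eventuallyEq_zero hc.isCompact (subset_tsupport β) hz)]
    rw [(h.push_eventuallyEq_zero hc.isCompact (h.support_dbY_subset β) hz).eq_of_nhds]
    exact db_const 0
  · rw [db_congr (h.push_eventuallyEq hz β), db_sum]
    · unfold push
      refine Finset.sum_congr rfl fun y hy => ?_
      rw [h.mem_fib] at hy
      unfold dbY
      rw [hy]
      rfl
    · intro y hy
      rw [h.mem_fib] at hy
      have := hβ y
      rwa [hy] at this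

lemma integral_push_dzY (hβ : h.Smooth β) (hc : HasCompactSupport β) :
    ∫ z, h.push (h.dzY β) z = 0 := by
  have := integral_dz_eq_zero (contDiff_push hβ hc) (h.push_hasCompactSupport hc)
  simpa only [dz_push hβ hc] using this

lemma integral_push_dbY (hβ : h.Smooth β) (hc : HasCompactSupport β) :
    ∫ z, h.push (h.dbY β) z = 0 := by
  have := integral_db_eq_zero (contDiff_push hβ hc) (h.push_hasCompactSupport hc)
  simpa only [db_push hβ hc] using this

end FinCov

end Groth.Agent.An.H579.RetCov
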