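import Groth.Agent.An.H579.RetRat
import Groth.Agent.An.H579.RetTest
import Mathlib.Analysis.Normed.Module.Connected
import Mathlib.Analysis.Complex.Basic
import Mathlib.LinearAlgebra.Complex.FiniteDimensional

/-!
# The algebra of holomorphic functions of moderate growth on a finite covering, and its trace
-/

set_option autoImplicit false

open Set Topology Metric Polynomial Filter

namespace Groth.Agent.An.H579.RetCov

open Groth.Agent.An.H869.PolyGrowth

variable {Y : Type} [TopologicalSpace Y]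

namespace FinCov

section Hol

variable {S : Set ℂ} {p : Y → ℂ} {h : FinCov S p}

lemma hol_const (c : ℂ) : h.Hol (fun _ => c) := fun _ => differentiableAt_const c

lemma Hol.add {F G : Y → ℂ} (hF : h.Hol F) (hG : h.Hol G) : h.Hol (fun y => F y + G y) :=
  fun y => (hF y).add (hG y)

lemma Hol.mul {F G : Y → ℂ} (hF : h.Hol F) (hG : h.Hol G) : h.Hol (fun y => F y * G y) :=
  fun y => (hF y).mul (hG y)

variable (h) in
lemma comp_sec_eventuallyEq (g : ℂ → ℂ) (y : Y) :
    (fun y' => g (p y')) ∘ h.sec y =ᶠ[𝓝 (p y)] g := by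
  obtain ⟨r, hr, -, hs⟩ := h.exists_isSec_sec y
  filter_upwards [ball_mem_nhds (p y) hr] with z hz
  simp only [Function.comp_apply, hs.sec z hz]

lemma hol_comp {g : ℂ → ℂ} (hg : ∀ z, z ∉ S → DifferentiableAt ℂ g z) :
    h.Hol (fun y => g (p y)) := by
  intro y
  exact (hg (p y) (h.notMem y)).congr_of_eventuallyEq (h.comp_sec_eventuallyEq g y)

lemma Hol.continuous {F : Y → ℂ} (hF : h.Hol F) : Continuous F := by
  rw [continuous_iff_continuousAt]
  intro y
  obtain ⟨r, hr, -, hs⟩ := h.exists_isSec_sec y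
  have h1 : ContinuousAt (F ∘ h.sec y) (p y) := (hF y).continuousAt
  have h2 : ContinuousAt ((F ∘ h.sec y) ∘ p) y :=
    ContinuousAt.comp (f := p) h1 h.continuous.continuousAt
  refine h2.congr ?_
  have ho := h.isOpen_image isOpen_ball hs
  have hy : y ∈ h.sec y '' ball (p y) r := ⟨p y, mem_ball_self hr, h.sec_self y⟩
  filter_upwards [ho.mem_nhds hy] with y' hy'
  rw [mem_image_iff hs] at hy'
  simp only [Function.comp_apply, hy'.2]

lemma Hol.push {F : Y → ℂ} (hF : h.Hol F) {z : ℂ} (hz : z ∉ S) :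
    DifferentiableAt ℂ (h.push F) z := by
  refine DifferentiableAt.congr_of_eventuallyEq ?_ (h.push_eventuallyEq hz F)
  refine DifferentiableAt.fun_sum fun y hy => ?_
  have := hF y
  rwa [h.mem_fib.1 hy] at this

end Hol

variable {S : Finset ℂ} {p : Y → ℂ} (h : FinCov (S : Set ℂ) p)

/-- the number of sheets is constant -/
theorem exists_card : ∃ n : ℕ, ∀ z, z ∉ S → (h.fin z).toFinset.card = n := by
  obtain ⟨z₀, hz₀⟩ := exists_notMem (S := S)
  refine ⟨(h.fin z₀).toFinset.card, fun z hz => ?_⟩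
  have hc : IsPreconnected ((S : Set ℂ)ᶜ) :=
    (S.countable_toSet.isConnected_compl_of_one_lt_rank
      (by rw [Complex.rank_real_complex]; norm_num)).isPreconnected
  have hcont : ContinuousOn (fun z => (h.fin z).toFinset.card) ((S : Set ℂ)ᶜ) := by
    intro z hz
    refine ContinuousAt.continuousWithinAt ?_
    rw [ContinuousAt, nhds_discrete ℕ, tendsto_pure]
    filter_upwards [h.push_eventuallyEq hz (fun _ => (1 : ℕ))] with w hw
    unfold push at hw
    simpa using hw
  exact hc.constant hcont hz hz₀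

/-- the algebra of holomorphic functions of moderate growth -/
def alg : Subalgebra ℂ (Y → ℂ) where
  carrier := {F | h.Hol F ∧ Mod S p F}
  mul_mem' hF hG := ⟨hF.1.mul hG.1, mod_iff.2
    ((mod_iff.1 hF.2).mul (fun y => one_le_wt S (p y)) (mod_iff.1 hG.2))⟩
  add_mem' hF hG := ⟨hF.1.add hG.1, mod_iff.2
    ((mod_iff.1 hF.2).add (fun y => one_le_wt S (p y)) (mod_iff.1 hG.2))⟩
  algebraMap_mem' c := ⟨hol_const c, mod_iff.2 (PG.const c)⟩

lemma mem_alg {F : Y → ℂ} : F ∈ h.alg ↔ h.Hol F ∧ Mod S p F := Iff.rfl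

lemma id_mem_alg : p ∈ h.alg := by
  refine ⟨hol_comp (g := fun z => z) fun z _ => differentiableAt_id, 1, 1, fun y => ?_⟩
  rw [one_mul, pow_one, wt]
  have h2 : (1 : ℝ) ≤ ∏ s ∈ S, (1 + ‖p y - s‖⁻¹) :=
    Finset.one_le_prod fun s _ => by
      have := inv_nonneg.2 (norm_nonneg (p y - s))
      linarith
  calc ‖p y‖ ≤ (1 + ‖p y‖) * 1 := by linarith
    _ ≤ _ := by gcongr

lemma inv_mem_alg : (fun y => ((PS S).eval (p y))⁻¹) ∈ h.alg := by
  refine ⟨hol_comp (g := fun z => ((PS S).eval z)⁻¹) fun z hz => ?_, 1, 1, fun y => ?_⟩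
  · exact (PS S).differentiable.differentiableAt.inv (eval_PS_ne_zero.2 hz)
  · change ‖((PS S).eval (p y))⁻¹‖ ≤ _
    rw [one_mul, pow_one, wt, eval_PS, norm_inv, norm_prod, ← Finset.prod_inv_distrib]
    have h2 : ∏ s ∈ S, ‖p y - s‖⁻¹ ≤ ∏ s ∈ S, (1 + ‖p y - s‖⁻¹) :=
      Finset.prod_le_prod (fun s _ => by positivity) fun s _ => by linarith
    have h3 : (0 : ℝ) ≤ ∏ s ∈ S, (1 + ‖p y - s‖⁻¹) :=
      Finset.prod_nonneg fun s _ => by positivity
    calc ∏ s ∈ S, ‖p y - s‖⁻¹ ≤ 1 * ∏ s ∈ S, (1 + ‖p y - s‖⁻¹) := by rw [one_mul]; exact h2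
      _ ≤ _ := by
        gcongr
        linarith [norm_nonneg (p y)]

/-- the coordinate -/
def coord : h.alg := ⟨p, h.id_mem_alg⟩

@[simp] lemma coord_apply (y : Y) : (h.coord : Y → ℂ) y = p y := rfl

@[simp] lemma aeval_coord_apply (P : ℂ[X]) (y : Y) :
    ((aeval h.coord P : h.alg) : Y → ℂ) y = P.eval (p y) := by
  have h1 : ((aeval h.coord P : h.alg) : Y → ℂ) = aeval (p : Y → ℂ) P := by
    have := Polynomial.aeval_algHom_apply h.alg.val h.coord P
    exact this.symm
  rw [h1]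
  have h2 := Polynomial.aeval_algHom_apply (Pi.evalAlgHom ℂ (fun _ : Y => ℂ) y) p P
  have h3 : (Pi.evalAlgHom ℂ (fun _ : Y => ℂ) y) ((aeval p) P) = (aeval (p y)) P := h2.symm
  rw [← Polynomial.coe_aeval_eq_eval]
  exact h3

lemma isUnit_aeval_coord : IsUnit (aeval h.coord (PS S)) := by
  refine IsUnit.of_mul_eq_one (⟨_, h.inv_mem_alg⟩ : h.alg) ?_
  refine Subtype.ext (funext fun y => ?_)
  rw [Subalgebra.coe_mul, Pi.mul_apply, aeval_coord_apply]
  exact mul_inv_cancel₀ (eval_PS_ne_zero.2 (h.notMem y))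

section Loc

variable (A : Type) [CommRing A] [Algebra ℂ[X] A] [IsLocalization.Away (PS S) A]

/-- the structure map `A → alg` -/
noncomputable def structMap : A →+* h.alg :=
  IsLocalization.Away.lift (PS S) (g := (aeval h.coord : ℂ[X] →ₐ[ℂ] h.alg).toRingHom)
    h.isUnit_aeval_coord

lemma structMap_algebraMap (P : ℂ[X]) :
    h.structMap A (algebraMap ℂ[X] A P) = aeval h.coord P := by
  unfold structMap
  rw [IsLocalization.Away.lift_eq]
  rfl

lemma structMap_apply (a : A) (y : Y) :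
    (h.structMap A a : Y → ℂ) y = ev S A (p y) (h.notMem y) a := by
  have h1 : ((Pi.evalRingHom (fun _ : Y => ℂ) y).comp
      ((h.alg.val : h.alg →+* (Y → ℂ)).comp (h.structMap A))) = ev S A (p y) (h.notMem y) := by
    refine IsLocalization.ringHom_ext (Submonoid.powers (PS S)) ?_
    refine RingHom.ext fun P => ?_
    simp only [RingHom.comp_apply, ev_algebraMap, structMap_algebraMap]
    exact h.aeval_coord_apply P y
  exact congrArg (fun f => f a) h1

/-- functions of moderate growth have traces of moderate growth -/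
lemma mod_push {F : Y → ℂ} (hF : Mod S p F) : ∃ (K : ℝ) (N : ℕ), ∀ z, z ∉ S →
    ‖h.push F z‖ ≤ K * wt S z ^ N := by
  obtain ⟨n, hn⟩ := h.exists_card
  obtain ⟨K, N, hK⟩ := hF
  refine ⟨n * K, N, fun z hz => ?_⟩
  calc ‖h.push F z‖ ≤ ∑ y ∈ (h.fin z).toFinset, ‖F y‖ := norm_sum_le _ _
    _ ≤ ∑ y ∈ (h.fin z).toFinset, K * wt S z ^ N := by
        refine Finset.sum_le_sum fun y hy => ?_
        rw [← h.mem_fib.1 hy]
        exact hK y
    _ = n * K * wt S z ^ N := by
        rw [Finset.sum_const, hn z hz, nsmul_eq_mul]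
        ring

lemma exists_trace (F : h.alg) : ∃ a : A, ∀ z hz, ev S A z hz a = h.push (F : Y → ℂ) z := by
  obtain ⟨K, N, hK⟩ := h.mod_push F.2.2
  exact exists_ev_eq S A (h.push (F : Y → ℂ)) (fun z hz => F.2.1.push hz) K N hK

/-- the trace `alg → A` -/
noncomputable def trace (F : h.alg) : A := (h.exists_trace A F).choose

lemma ev_trace (F : h.alg) (z : ℂ) (hz : z ∉ S) :
    ev S A z hz (h.trace A F) = ∑ y ∈ (h.fin z).toFinset, (F : Y → ℂ) y :=
  (h.exists_trace A F).choose_spec z hz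

end Loc

end FinCov

end Groth.Agent.An.H579.RetCov
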