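import Mathlib.Topology.Homotopy.Lifting
import Mathlib.Analysis.Convex.Contractible
import Mathlib.Analysis.Complex.Basic
import Mathlib.Analysis.LocallyConvex.WithSeminorms
import Mathlib.Analysis.Normed.Module.Convex

/-!
# Coverings of `ℂ ∖ S`: local sections

`FinCov S p`: `p : Y → ℂ` is a covering map with finite fibres of the open set `Sᶜ`, with values in
`Sᶜ`.  `IsSec p D σ`: `σ : ℂ → Y` is a continuous section of `p` on `D`.
-/

set_option autoImplicit false

open Set Topology Metric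

namespace Groth.Agent.An.H579.RetCov

variable {Y : Type} [TopologicalSpace Y] {S : Set ℂ} {p : Y → ℂ}

/-- a covering of `ℂ ∖ S` with finite fibres -/
structure FinCov (S : Set ℂ) (p : Y → ℂ) : Prop where
  closed : IsClosed S
  cov : IsCoveringMapOn p Sᶜ
  notMem : ∀ y, p y ∉ S
  fin : ∀ z, (p ⁻¹' {z}).Finite

/-- a continuous section over `D` -/
structure IsSec (p : Y → ℂ) (D : Set ℂ) (σ : ℂ → Y) : Prop where
  cont : ContinuousOn σ D
  sec : ∀ z ∈ D, p (σ z) = z

lemma IsSec.mono {D D' : Set ℂ} {σ : ℂ → Y} (h : IsSec p D σ) (hD : D' ⊆ D) : IsSec p D' σ :=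
  ⟨h.cont.mono hD, fun z hz => h.sec z (hD hz)⟩

namespace FinCov

variable (h : FinCov S p)
include h

lemma isLocalHomeomorph : IsLocalHomeomorph p := by
  rw [isLocalHomeomorph_iff_isLocalHomeomorphOn_univ]
  have h1 := h.cov.isLocalHomeomorphOn
  have h2 : p ⁻¹' Sᶜ = univ := eq_univ_of_forall h.notMem
  rwa [h2] at h1

lemma continuous : Continuous p := h.isLocalHomeomorph.continuous

lemma isSeparatedMap : IsSeparatedMap p := by
  intro y₁ y₂ he hne
  have h2 := h.cov.isCoveringMap_restrictPreimage.isSeparatedMap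
  obtain ⟨s₁, s₂, hs₁, hs₂, h₁, h₂, hd⟩ := h2 ⟨y₁, h.notMem y₁⟩ ⟨y₂, h.notMem y₂⟩
    (Subtype.ext he) (fun e => hne (congrArg Subtype.val e))
  have ho : IsOpen (p ⁻¹' Sᶜ) := h.closed.isOpen_compl.preimage h.continuous
  refine ⟨Subtype.val '' s₁, Subtype.val '' s₂, ho.isOpenMap_subtype_val _ hs₁,
    ho.isOpenMap_subtype_val _ hs₂, ⟨_, h₁, rfl⟩, ⟨_, h₂, rfl⟩, ?_⟩
  exact (disjoint_image_iff Subtype.val_injective).2 hd

lemma t2Space : T2Space Y := by
  refine ⟨fun y₁ y₂ hne => ?_⟩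
  by_cases he : p y₁ = p y₂
  · exact h.isSeparatedMap y₁ y₂ he hne
  · obtain ⟨u, v, hu, hv, h₁, h₂, hd⟩ := t2_separation he
    exact ⟨p ⁻¹' u, p ⁻¹' v, hu.preimage h.continuous, hv.preimage h.continuous, h₁, h₂,
      hd.preimage p⟩

/-- sections over simply connected open sets -/
theorem exists_sec {D : Set ℂ} (hD : IsOpen D) (hsc : IsSimplyConnected D) (hDS : D ⊆ Sᶜ) (y : Y)
    (hy : p y ∈ D) : ∃ σ : ℂ → Y, IsSec p D σ ∧ σ (p y) = y := by
  classical
  have := hsc.simplyConnectedSpace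
  have := hD.locallyPathConnectedSpace
  obtain ⟨F, ⟨hF0, hF⟩, -⟩ := h.cov.existsUnique_continuousMap_lifts
    (⟨Subtype.val, continuous_subtype_val⟩ : C(D, ℂ)) (a₀ := ⟨p y, hy⟩) (e₀ := y) rfl
    (fun a => hDS a.2)
  refine ⟨fun z => if hz : z ∈ D then F ⟨z, hz⟩ else y, ⟨?_, ?_⟩, ?_⟩
  · rw [continuousOn_iff_continuous_domRestrict]
    convert! map_continuous F
    ext z
    simp
  · intro z hz
    simp only [hz, dite_true]
    exact congrFun hF ⟨z, hz⟩
  · simp only [hy, dite_true]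
    exact hF0

lemma eqOn_of_isSec {D : Set ℂ} (hD : IsPreconnected D) {σ τ : ℂ → Y} (hσ : IsSec p D σ)
    (hτ : IsSec p D τ) {z : ℂ} (hz : z ∈ D) (he : σ z = τ z) : EqOn σ τ D :=
  h.isSeparatedMap.eqOn_of_comp_eqOn h.isLocalHomeomorph.isLocallyInjective hD hσ.cont hτ.cont
    (fun w hw => (hσ.sec w hw).trans (hτ.sec w hw).symm) hz he

omit h in
lemma isSimplyConnected_ball (c : ℂ) {r : ℝ} (hr : 0 < r) : IsSimplyConnected (ball c r) := by
  have := (convex_ball c r).contractibleSpace ⟨c, mem_ball_self hr⟩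
  exact (inferInstance : SimplyConnectedSpace (ball c r))

/-- sections over discs -/
theorem exists_sec_ball {c : ℂ} {r : ℝ} (hDS : ball c r ⊆ Sᶜ) (y : Y)
    (hy : p y ∈ ball c r) : ∃ σ : ℂ → Y, IsSec p (ball c r) σ ∧ σ (p y) = y := by
  have hr : 0 < r := pos_of_mem_ball hy
  exact h.exists_sec isOpen_ball (isSimplyConnected_ball c hr) hDS y hy

lemma exists_radius (y : Y) : ∃ r : ℝ, 0 < r ∧ ball (p y) r ⊆ Sᶜ :=
  Metric.isOpen_iff.1 h.closed.isOpen_compl (p y) (h.notMem y)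

/-- a section near a point of `Y` -/
noncomputable def sec (y : Y) : ℂ → Y :=
  (h.exists_sec_ball (h.exists_radius y).choose_spec.2 y
    (mem_ball_self (h.exists_radius y).choose_spec.1)).choose

lemma sec_self (y : Y) : h.sec y (p y) = y :=
  (h.exists_sec_ball (h.exists_radius y).choose_spec.2 y
    (mem_ball_self (h.exists_radius y).choose_spec.1)).choose_spec.2

lemma exists_isSec_sec (y : Y) : ∃ r : ℝ, 0 < r ∧ ball (p y) r ⊆ Sᶜ ∧
    IsSec p (ball (p y) r) (h.sec y) :=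
  ⟨(h.exists_radius y).choose, (h.exists_radius y).choose_spec.1,
    (h.exists_radius y).choose_spec.2, (h.exists_sec_ball (h.exists_radius y).choose_spec.2 y
    (mem_ball_self (h.exists_radius y).choose_spec.1)).choose_spec.1⟩

/-- any section through `y` agrees with `sec y` near `p y` -/
lemma eventuallyEq_sec {D : Set ℂ} (hD : IsOpen D) {σ : ℂ → Y} (hσ : IsSec p D σ) {z : ℂ}
    (hz : z ∈ D) : h.sec (σ z) =ᶠ[𝓝 z] σ := by
  obtain ⟨r, hr, -, hs⟩ := h.exists_isSec_sec (σ z)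
  rw [hσ.sec z hz] at hs
  obtain ⟨r', hr', hb⟩ := Metric.isOpen_iff.1 hD z hz
  have hm : 0 < min r r' := lt_min hr hr'
  have key : EqOn (h.sec (σ z)) σ (ball z (min r r')) := by
    refine h.eqOn_of_isSec (convex_ball z _).isPreconnected
      (hs.mono (ball_subset_ball (min_le_left _ _)))
      (hσ.mono ((ball_subset_ball (min_le_right _ _)).trans hb)) (mem_ball_self hm) ?_
    have := h.sec_self (σ z)
    rwa [hσ.sec z hz] at this
  exact key.eventuallyEq_of_mem (ball_mem_nhds z hm)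

/-- sections are open maps -/
lemma isOpen_image {D : Set ℂ} (hD : IsOpen D) {σ : ℂ → Y} (hσ : IsSec p D σ) :
    IsOpen (σ '' D) := by
  have h1 : IsOpenEmbedding (D.domRestrict σ) := by
    refine h.isLocalHomeomorph.isOpenEmbedding_of_comp (g := p) ?_
      (continuousOn_iff_continuous_domRestrict.1 hσ.cont)
    have : p ∘ D.domRestrict σ = Subtype.val := by
      ext z
      exact hσ.sec z z.2
    rw [this]
    exact hD.isOpenEmbedding_subtypeVal
  have h2 := h1.isOpen_range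
  rwa [range_domRestrict] at h2

omit h in
lemma IsSec.injOn {D : Set ℂ} {σ : ℂ → Y} (hσ : IsSec p D σ) : InjOn σ D := by
  intro z hz w hw e
  have := congrArg p e
  rwa [hσ.sec z hz, hσ.sec w hw] at this

omit h in
/-- `y` lies in the image of a section iff it is the value at `p y` -/
lemma mem_image_iff {D : Set ℂ} {σ : ℂ → Y} (hσ : IsSec p D σ) (y : Y) :
    y ∈ σ '' D ↔ p y ∈ D ∧ σ (p y) = y := by
  constructor
  · rintro ⟨z, hz, rfl⟩
    rw [hσ.sec z hz]
    exact ⟨hz, rfl⟩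
  · rintro ⟨h1, h2⟩
    exact ⟨_, h1, h2⟩

end FinCov

end Groth.Agent.An.H579.RetCov
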