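import Groth.Agent.An.H579.RetAlg
import Mathlib.LinearAlgebra.Matrix.Adjugate
import Mathlib.LinearAlgebra.Matrix.NonsingularInverse

/-!
# Dual bases for the trace form of a finite covering
-/

set_option autoImplicit false

open Set Topology Metric Polynomial Filter

namespace Groth.Agent.An.H579.RetCov

/-- the matrix identity behind dual bases -/
lemma matrix_dual {m n : Type*} [Fintype m] [Fintype n] [DecidableEq m] [DecidableEq n]
    (e : n ≃ m) (M : Matrix m n ℂ) (w w' : n) :
    ∑ j, M j w * ∑ k, (M * M.transpose).adjugate j k * M k w' =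
      if w = w' then (M * M.transpose).det else 0 := by
  set N : Matrix m m ℂ := M.submatrix id e.symm with hN
  have h1 : N * N.transpose = M * M.transpose := by
    rw [hN, Matrix.transpose_submatrix, Matrix.submatrix_mul_equiv, Matrix.submatrix_id_id]
  have h2 : N.transpose * ((N * N.transpose).adjugate * N) =
      (N * N.transpose).det • (1 : Matrix m m ℂ) := by
    rw [Matrix.adjugate_mul_distrib, ← mul_assoc, ← mul_assoc, Matrix.mul_adjugate,
      mul_assoc, Matrix.adjugate_mul, Matrix.det_mul, Matrix.smul_mul, one_mul, smul_smul,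
      mul_comm]
  have h3 := congrFun (congrFun h2 (e w)) (e w')
  rw [h1] at h3
  simp only [Matrix.mul_apply, Matrix.smul_apply, Matrix.transpose_apply, Matrix.one_apply,
    hN, Matrix.submatrix_apply, id, Equiv.symm_apply_apply, smul_eq_mul,
    EmbeddingLike.apply_eq_iff_eq] at h3
  rw [mul_ite, mul_one, mul_zero] at h3
  exact h3

variable {Y : Type} [TopologicalSpace Y]

namespace FinCov

variable {S : Finset ℂ} {p : Y → ℂ} (h : FinCov (S : Set ℂ) p)
variable (A : Type) [CommRing A] [Algebra ℂ[X] A] [IsLocalization.Away (PS S) A]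

/-- `a` is represented by a dual system -/
def IsDual (a : A) : Prop :=
  ∃ (ι : Type) (_ : Fintype ι) (e f : ι → h.alg), ∀ w w' : Y, p w = p w' →
    (w = w' → ∑ i, (e i : Y → ℂ) w * (f i : Y → ℂ) w' = ev S A (p w) (h.notMem w) a) ∧
    (w ≠ w' → ∑ i, (e i : Y → ℂ) w * (f i : Y → ℂ) w' = 0)

/-- the ideal of elements represented by a dual system -/
def dualIdeal : Ideal A where
  carrier := {a | h.IsDual A a}
  zero_mem' := ⟨Empty, inferInstance, fun i => i.elim, fun i => i.elim, fun w w' _ =>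
    ⟨fun _ => by simp, fun _ => by simp⟩⟩
  add_mem' := by
    rintro a b ⟨ι, _, e, f, h₁⟩ ⟨ι', _, e', f', h₂⟩
    refine ⟨ι ⊕ ι', inferInstance, Sum.elim e e', Sum.elim f f', fun w w' hw => ?_⟩
    simp only [Fintype.sum_sum_type, Sum.elim_inl, Sum.elim_inr, map_add]
    exact ⟨fun he => by rw [(h₁ w w' hw).1 he, (h₂ w w' hw).1 he],
      fun he => by rw [(h₁ w w' hw).2 he, (h₂ w w' hw).2 he, add_zero]⟩
  smul_mem' := by
    rintro c a ⟨ι, _, e, f, h₁⟩
    refine ⟨ι, inferInstance, fun i => h.structMap A c * e i, f, fun w w' hw => ?_⟩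
    have h2 : ∀ i, ((h.structMap A c * e i : h.alg) : Y → ℂ) w * (f i : Y → ℂ) w' =
        ev S A (p w) (h.notMem w) c * ((e i : Y → ℂ) w * (f i : Y → ℂ) w') := by
      intro i
      rw [Subalgebra.coe_mul, Pi.mul_apply, structMap_apply]
      ring
    simp only [h2, ← Finset.mul_sum, smul_eq_mul, map_mul]
    exact ⟨fun he => by rw [(h₁ w w' hw).1 he], fun he => by rw [(h₁ w w' hw).2 he, mul_zero]⟩

variable {h}

/-- the `SEP` functions as elements of the algebra -/
lemma SEP.exists_alg (hs : h.SEP) (y₁ : Y) :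
    ∃ F : h.alg, (F : Y → ℂ) y₁ = 1 ∧ ∀ y, p y = p y₁ → y ≠ y₁ → (F : Y → ℂ) y = 0 := by
  obtain ⟨F, h1, h2, h3, h4⟩ := hs y₁
  exact ⟨⟨F, h1, h2⟩, h3, h4⟩

variable {A} in
lemma exists_det (hs : h.SEP) (z₀ : ℂ) (hz₀ : z₀ ∉ S) :
    ∃ d ∈ h.dualIdeal A, ev S A z₀ hz₀ d ≠ 0 := by
  classical
  choose F hF1 hF0 using hs.exists_alg
  let m := {y // y ∈ (h.fin z₀).toFinset}
  -- the trace matrix
  let T : Matrix m m A := Matrix.of fun j k => h.trace A (F j.1 * F k.1)
  let M : ∀ z : ℂ, Matrix m {y // y ∈ (h.fin z).toFinset} ℂ := fun z =>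
    Matrix.of fun j w => (F j.1 : Y → ℂ) w.1
  have hT : ∀ j k, T j k = h.trace A (F j.1 * F k.1) := fun j k => rfl
  have hM : ∀ z j w, M z j w = (F j.1 : Y → ℂ) w.1 := fun z j w => rfl
  have key : ∀ (z : ℂ) (hz : z ∉ S), (ev S A z hz).mapMatrix T = M z * (M z).transpose := by
    intro z hz
    ext j k
    rw [RingHom.mapMatrix_apply, Matrix.map_apply, hT, ev_trace, Matrix.mul_apply,
      ← Finset.sum_coe_sort]
    rfl
  obtain ⟨n, hn⟩ := h.exists_card
  refine ⟨T.det, ?_, ?_⟩
  · refine ⟨m, inferInstance, fun j => F j.1,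
      fun j => ∑ k, h.structMap A (T.adjugate j k) * F k.1, fun w w' hw => ?_⟩
    set z := p w with hz
    have hzS : z ∉ S := h.notMem w
    have he : Nonempty ({y // y ∈ (h.fin z).toFinset} ≃ m) := by
      refine Fintype.card_eq.1 ?_
      rw [Fintype.card_coe, hn z hzS]
      exact ((Fintype.card_coe _).trans (hn z₀ hz₀)).symm
    obtain ⟨e⟩ := he
    have h1 := matrix_dual e (M z) ⟨w, h.mem_fib.2 rfl⟩ ⟨w', h.mem_fib.2 hw.symm⟩
    rw [← key z hzS, ← RingHom.map_adjugate, ← RingHom.map_det] at h1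
    have h2 : ∀ j : m, ((∑ k, h.structMap A (T.adjugate j k) * F k.1 : h.alg) : Y → ℂ) w' =
        ∑ k, ev S A z hzS (T.adjugate j k) * (F k.1 : Y → ℂ) w' := by
      intro j
      have h3 : ((∑ k, h.structMap A (T.adjugate j k) * F k.1 : h.alg) : Y → ℂ) w' =
          ∑ k, ((h.structMap A (T.adjugate j k) * F k.1 : h.alg) : Y → ℂ) w' := by
        rw [AddSubmonoidClass.coe_finsetSum, Finset.sum_apply]
      rw [h3]
      refine Finset.sum_congr rfl fun k _ => ?_
      rw [Subalgebra.coe_mul, Pi.mul_apply, structMap_apply]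
      have h4 : ∀ (z' : ℂ) (hz' : z' ∉ S), z' = z →
          ev S A z' hz' (T.adjugate j k) = ev S A z hzS (T.adjugate j k) := by
        rintro z' hz' rfl
        rfl
      rw [h4 (p w') (h.notMem w') hw.symm]
    have h5 : ∑ j : m, (F j.1 : Y → ℂ) w *
        ((∑ k, h.structMap A (T.adjugate j k) * F k.1 : h.alg) : Y → ℂ) w' =
        if (⟨w, h.mem_fib.2 rfl⟩ : {y // y ∈ (h.fin z).toFinset}) =
          ⟨w', h.mem_fib.2 hw.symm⟩ then ev S A z hzS T.det else 0 := by
      simp only [h2]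
      exact h1
    rw [h5]
    exact ⟨fun he => if_pos (Subtype.ext he), fun he => if_neg fun hc => he (congrArg (fun x => x.1) hc)⟩
  · have h1 : (ev S A z₀ hz₀).mapMatrix T = 1 := by
      rw [key z₀ hz₀]
      ext j k
      rw [Matrix.mul_apply]
      simp only [Matrix.transpose_apply, hM]
      have hj : ∀ i j : m, (F i.1 : Y → ℂ) j.1 = if i = j then 1 else 0 := by
        intro i j
        split_ifs with hij
        · rw [hij]
          exact hF1 _
        · refine hF0 _ _ ?_ ?_
          · rw [h.mem_fib.1 i.2, h.mem_fib.1 j.2]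
          · exact fun he => hij (Subtype.ext he.symm)
      rw [Matrix.one_apply]
      rw [Finset.sum_eq_single j]
      · rw [hj, hj, if_pos rfl, one_mul]
        simp only [eq_comm]
      · intro b _ hb
        rw [hj j b, if_neg (Ne.symm hb), zero_mul]
      · intro hc
        exact absurd (Finset.mem_univ _) hc
    rw [RingHom.map_det, h1, Matrix.det_one]
    exact one_ne_zero

/-- a global dual system -/
theorem exists_dual (hs : h.SEP) : ∃ (ι : Type) (_ : Fintype ι) (e f : ι → h.alg),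
    ∀ w w' : Y, p w = p w' →
    (w = w' → ∑ i, (e i : Y → ℂ) w * (f i : Y → ℂ) w' = 1) ∧
    (w ≠ w' → ∑ i, (e i : Y → ℂ) w * (f i : Y → ℂ) w' = 0) := by
  obtain ⟨ι, hι, e, f, hef⟩ := one_mem_of_forall (A := Localization.Away (PS S)) S
    (h.dualIdeal _) (exists_det hs)
  exact ⟨ι, hι, e, f, fun w w' hw => ⟨fun he => by rw [(hef w w' hw).1 he, map_one],
    (hef w w' hw).2⟩⟩

end FinCov

end Groth.Agent.An.H579.RetCov
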