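import Groth.Agent.An.H579.RetDual
import Groth.Agent.An.H579.EtAlg

/-!
# The algebra of a finite covering of `ℂ ∖ S` is finite étale, and recovers the covering

Assumption `h.SEP`: holomorphic functions of moderate growth separate the points of the fibres.
-/

set_option autoImplicit false

open Set Topology Metric Polynomial Filter

namespace Groth.Agent.An.H579.RetCov

variable {Y : Type} [TopologicalSpace Y]

namespace FinCov

variable {S : Finset ℂ} {p : Y → ℂ} (h : FinCov (S : Set ℂ) p)
variable (A : Type) [CommRing A] [Algebra ℂ[X] A] [IsLocalization.Away (PS S) A]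

/-- `alg` as an `A`-algebra -/
@[reducible] noncomputable def algebraAlg : Algebra A h.alg := (h.structMap A).toAlgebra

/-- the trace as a linear map -/
noncomputable def traceLin : letI := h.algebraAlg A; h.alg →ₗ[A] A :=
  letI := h.algebraAlg A
  { toFun := h.trace A
    map_add' := fun F G => ev_ext S fun z hz => by
      rw [map_add, ev_trace, ev_trace, ev_trace, ← Finset.sum_add_distrib]
      exact Finset.sum_congr rfl fun y _ => rfl
    map_smul' := fun a F => ev_ext S fun z hz => by
      rw [ev_trace, RingHom.id_apply, smul_eq_mul, map_mul, ev_trace, Finset.mul_sum]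
      refine Finset.sum_congr rfl fun y hy => ?_
      rw [Algebra.smul_def]
      change ((h.structMap A a * F : h.alg) : Y → ℂ) y = _
      rw [Subalgebra.coe_mul, Pi.mul_apply, structMap_apply]
      have h4 : ∀ (z' : ℂ) (hz' : z' ∉ S), z' = z → ev S A z' hz' a = ev S A z hz a := by
        rintro z' hz' rfl
        rfl
      rw [h4 (p y) (h.notMem y) (h.mem_fib.1 hy)] }

lemma traceLin_apply (F : h.alg) :
    letI := h.algebraAlg A; h.traceLin A F = h.trace A F := rfl

lemma smul_apply (a : A) (F : h.alg) (y : Y) :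
    letI := h.algebraAlg A; ((a • F : h.alg) : Y → ℂ) y =
      ev S A (p y) (h.notMem y) a * (F : Y → ℂ) y := by
  letI := h.algebraAlg A
  rw [Algebra.smul_def]
  change ((h.structMap A a * F : h.alg) : Y → ℂ) y = _
  rw [Subalgebra.coe_mul, Pi.mul_apply, structMap_apply]

variable {h}

/-- reconstruction from a dual system -/
lemma eq_sum_of_dual {ι : Type} [Fintype ι] {e f : ι → h.alg} (hef : ∀ w w' : Y, p w = p w' →
    (w = w' → ∑ i, (e i : Y → ℂ) w * (f i : Y → ℂ) w' = 1) ∧
    (w ≠ w' → ∑ i, (e i : Y → ℂ) w * (f i : Y → ℂ) w' = 0)) (b : h.alg) :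
    letI := h.algebraAlg A; b = ∑ i, h.traceLin A (b * f i) • e i := by
  letI := h.algebraAlg A
  refine Subtype.ext (funext fun w => ?_)
  rw [AddSubmonoidClass.coe_finsetSum, Finset.sum_apply]
  simp only [smul_apply, traceLin_apply, ev_trace]
  have h1 : ∀ i, (∑ y ∈ (h.fin (p w)).toFinset, ((b * f i : h.alg) : Y → ℂ) y) *
      (e i : Y → ℂ) w = ∑ y ∈ (h.fin (p w)).toFinset,
        (b : Y → ℂ) y * ((e i : Y → ℂ) w * (f i : Y → ℂ) y) := by
    intro i
    rw [Finset.sum_mul]
    refine Finset.sum_congr rfl fun y _ => ?_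
    rw [Subalgebra.coe_mul, Pi.mul_apply]
    ring
  simp only [h1]
  rw [Finset.sum_comm]
  simp only [← Finset.mul_sum]
  rw [Finset.sum_eq_single w]
  · rw [(hef w w rfl).1 rfl, mul_one]
  · intro y hy hne
    rw [(hef w y (h.mem_fib.1 hy).symm).2 (Ne.symm hne), mul_zero]
  · intro hc
    exact absurd (h.mem_fib.2 rfl) hc

theorem finite_alg (hs : h.SEP) : letI := h.algebraAlg A; Module.Finite A h.alg := by
  letI := h.algebraAlg A
  obtain ⟨ι, _, e, f, hef⟩ := exists_dual hs
  exact EtAlg.finite_of_dual (h.traceLin A) e f (eq_sum_of_dual A hef)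

theorem etale_alg (hs : h.SEP) : letI := h.algebraAlg A; Algebra.Etale A h.alg := by
  letI := h.algebraAlg A
  haveI := isNoetherianRing_loc S A
  obtain ⟨ι, _, e, f, hef⟩ := exists_dual hs
  refine EtAlg.etale_of_dual (h.traceLin A) e f (eq_sum_of_dual A hef) ?_
  refine Subtype.ext (funext fun w => ?_)
  rw [AddSubmonoidClass.coe_finsetSum, Finset.sum_apply]
  exact (hef w w rfl).1 rfl

/-- evaluation at a point of `Y` -/
def evY (y : Y) : h.alg →ₐ[ℂ] ℂ := (Pi.evalAlgHom ℂ (fun _ : Y => ℂ) y).comp h.alg.val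

@[simp] lemma evY_apply (y : Y) (b : h.alg) : evY y b = (b : Y → ℂ) y := rfl

lemma evY_injective (hs : h.SEP) : Function.Injective (evY (h := h)) := by
  intro y₁ y₂ he
  by_contra hne
  have h1 : p y₁ = p y₂ := congrArg (fun φ => φ h.coord) he
  obtain ⟨F, hF1, hF0⟩ := hs.exists_alg y₁
  have h2 : (F : Y → ℂ) y₁ = (F : Y → ℂ) y₂ := congrArg (fun φ => φ F) he
  rw [hF1, hF0 y₂ h1.symm (Ne.symm hne)] at h2
  exact one_ne_zero h2

/-- every `ℂ`-point of `alg` is a point of `Y` -/
theorem evY_surjective (hs : h.SEP) : Function.Surjective (evY (h := h)) := by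
  classical
  intro φ
  set z₀ := φ h.coord with hz₀
  have hzS : z₀ ∉ S := by
    have h1 : IsUnit (φ (aeval h.coord (PS S))) := h.isUnit_aeval_coord.map φ
    rw [← Polynomial.aeval_algHom_apply, Polynomial.coe_aeval_eq_eval] at h1
    exact eval_PS_ne_zero.1 h1.ne_zero
  have hA : ∀ a : Localization.Away (PS S),
      φ (h.structMap _ a) = ev S (Localization.Away (PS S)) z₀ hzS a := by
    intro a
    have h1 : (φ : h.alg →+* ℂ).comp (h.structMap (Localization.Away (PS S))) =
        ev S (Localization.Away (PS S)) z₀ hzS := by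
      refine IsLocalization.ringHom_ext (Submonoid.powers (PS S)) ?_
      refine RingHom.ext fun P => ?_
      simp only [RingHom.comp_apply, ev_algebraMap, structMap_algebraMap]
      change φ (aeval h.coord P) = _
      rw [← Polynomial.aeval_algHom_apply, Polynomial.coe_aeval_eq_eval]
    exact congrArg (fun f => f a) h1
  obtain ⟨ι, _, e, f, hef⟩ := exists_dual hs
  letI := h.algebraAlg (Localization.Away (PS S))
  set c : Y → ℂ := fun y => ∑ i, φ (e i) * (f i : Y → ℂ) y with hc
  have hφ : ∀ b : h.alg, φ b = ∑ y ∈ (h.fin z₀).toFinset, (b : Y → ℂ) y * c y := by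
    intro b
    have h1 := congrArg φ (eq_sum_of_dual (Localization.Away (PS S)) hef b)
    rw [map_sum] at h1
    rw [h1]
    have h2 : ∀ i, φ ((h.traceLin (Localization.Away (PS S)) (b * f i)) • e i) =
        ∑ y ∈ (h.fin z₀).toFinset, (b : Y → ℂ) y * (φ (e i) * (f i : Y → ℂ) y) := by
      intro i
      rw [Algebra.smul_def, map_mul]
      change φ (h.structMap _ (h.trace _ (b * f i))) * _ = _
      rw [hA, ev_trace, Finset.sum_mul]
      refine Finset.sum_congr rfl fun y _ => ?_
      rw [Subalgebra.coe_mul, Pi.mul_apply]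
      ring
    simp only [h2]
    rw [Finset.sum_comm]
    simp only [hc, Finset.mul_sum]
  have h1 : ∑ y ∈ (h.fin z₀).toFinset, c y = 1 := by
    have := hφ 1
    rw [map_one] at this
    rw [this]
    exact Finset.sum_congr rfl fun y _ => by
      rw [Subalgebra.coe_one, Pi.one_apply, one_mul]
  obtain ⟨y, hy, hcy⟩ := Finset.exists_ne_zero_of_sum_ne_zero (h1.trans_ne one_ne_zero)
  refine ⟨y, AlgHom.ext fun b => ?_⟩
  obtain ⟨F, hF1, hF0⟩ := hs.exists_alg y
  have hF : ∀ b : h.alg, φ (b * F) = (b : Y → ℂ) y * c y := by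
    intro b
    rw [hφ, Finset.sum_eq_single y]
    · rw [Subalgebra.coe_mul, Pi.mul_apply, hF1, mul_one]
    · intro y' hy' hne
      rw [Subalgebra.coe_mul, Pi.mul_apply, hF0 y' ?_ hne, mul_zero, zero_mul]
      rw [h.mem_fib.1 hy, h.mem_fib.1 hy']
    · intro hn
      exact absurd hy hn
  have h2 : φ F = c y := by
    have := hF 1
    rw [one_mul, Subalgebra.coe_one, Pi.one_apply, one_mul] at this
    exact this
  have h3 := hF b
  rw [map_mul, h2] at h3
  rw [evY_apply]
  exact (mul_right_cancel₀ hcy h3).symm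

/-- `Y` is homeomorphic to the set of `ℂ`-points with the topology of pointwise convergence -/
theorem isInducing_evY (hs : h.SEP) :
    IsInducing (fun (y : Y) (b : h.alg) => (b : Y → ℂ) y) := by
  classical
  rw [isInducing_iff_nhds]
  intro y₀
  refine le_antisymm ?_ ?_
  · rw [← tendsto_iff_comap]
    exact (continuous_pi fun b : h.alg => b.2.1.continuous).tendsto y₀
  · intro U hU
    -- sections over a ball around `p y₀`
    have hz₀ := h.notMem y₀
    obtain ⟨r, hr, hb⟩ := Metric.isOpen_iff.1 h.closed.isOpen_compl (p y₀) hz₀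
    obtain ⟨σ, hσ⟩ := h.exists_secs isOpen_ball (isSimplyConnected_ball (p y₀) hr) hb
      (mem_ball_self hr)
    obtain ⟨F, hF1, hF0⟩ := hs.exists_alg y₀
    -- close to `p y₀`, the values of `F` on the other sections are small
    have hcF : ∀ y ∈ (h.fin (p y₀)).toFinset, ∀ᶠ z in 𝓝 (p y₀),
        dist ((F : Y → ℂ) (σ y z)) ((F : Y → ℂ) y) < 1 / 2 := by
      intro y hy
      have h1 := hσ y (h.mem_fib.1 hy)
      have h2 : ContinuousAt (fun z => (F : Y → ℂ) (σ y z)) (p y₀) :=
        ContinuousAt.comp (f := σ y) (F.2.1.continuous.continuousAt)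
          (h1.1.cont.continuousAt (ball_mem_nhds _ hr))
      have h3 := Metric.tendsto_nhds.1 h2 (1 / 2) (by norm_num)
      filter_upwards [h3] with z hz
      rwa [h1.2] at hz
    have hcU : ∀ᶠ z in 𝓝 (p y₀), σ y₀ z ∈ U := by
      have h1 := hσ y₀ rfl
      have h2 : ContinuousAt (σ y₀) (p y₀) := h1.1.cont.continuousAt (ball_mem_nhds _ hr)
      have h3 : U ∈ 𝓝 (σ y₀ (p y₀)) := by rw [h1.2]; exact hU
      exact h2 h3
    have hev : ∀ᶠ z in 𝓝 (p y₀), z ∈ ball (p y₀) r ∧ σ y₀ z ∈ U ∧
        ∀ y ∈ (h.fin (p y₀)).toFinset, dist ((F : Y → ℂ) (σ y z)) ((F : Y → ℂ) y) < 1 / 2 := by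
      filter_upwards [ball_mem_nhds _ hr, hcU, (Finset.eventually_all _).2 hcF] with z h1 h2 h3
      exact ⟨h1, h2, h3⟩
    rw [Filter.mem_comap]
    refine ⟨{g | (g h.coord ∈ {z | z ∈ ball (p y₀) r ∧ σ y₀ z ∈ U ∧
        ∀ y ∈ (h.fin (p y₀)).toFinset, dist ((F : Y → ℂ) (σ y z)) ((F : Y → ℂ) y) < 1 / 2}) ∧
        dist (g F) 1 < 1 / 2}, ?_, ?_⟩
    · refine Filter.inter_mem ?_ ?_
      · have h1 : Tendsto (fun g : h.alg → ℂ => g h.coord)
            (𝓝 (fun b : h.alg => (b : Y → ℂ) y₀)) (𝓝 (p y₀)) :=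
          (continuous_apply h.coord).tendsto _
        exact h1 hev
      · have h1 : Tendsto (fun g : h.alg → ℂ => g F)
            (𝓝 (fun b : h.alg => (b : Y → ℂ) y₀)) (𝓝 1) := by
          have := (continuous_apply F).tendsto (fun b : h.alg => (b : Y → ℂ) y₀)
          simpa only [hF1] using this
        exact h1 (Metric.ball_mem_nhds 1 (by norm_num))
    · rintro y ⟨⟨h1, h2, h3⟩, h4⟩
      simp only [coord_apply] at h1 h2 h3
      -- the section through `y`
      obtain ⟨τ, hτ, hs'⟩ := h.exists_sec isOpen_ball (isSimplyConnected_ball (p y₀) hr) hb y h1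
      have hp : p (τ (p y₀)) = p y₀ := hτ.sec _ (mem_ball_self hr)
      have hDc : IsPreconnected (ball (p y₀) r) :=
        (isSimplyConnected_ball (p y₀) hr).isPathConnected.isConnected.isPreconnected
      have h5 : σ (τ (p y₀)) (p y) = y := by
        rw [h.eqOn_of_isSec hDc (hσ _ hp).1 hτ (mem_ball_self hr) (hσ _ hp).2 h1, hs']
      by_cases h6 : τ (p y₀) = y₀
      · rw [h6] at h5
        rw [← h5]
        exact h2
      · exfalso
        have h7 := h3 (τ (p y₀)) (h.mem_fib.2 hp)
        rw [h5, hF0 _ hp h6] at h7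
        have h8 : (1 : ℝ) = dist (0 : ℂ) 1 := by simp
        have h9 : dist (0 : ℂ) 1 ≤ dist ((F : Y → ℂ) y) 0 + dist ((F : Y → ℂ) y) 1 :=
          dist_triangle_left _ _ _
        linarith

end FinCov

end Groth.Agent.An.H579.RetCov
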