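import Groth.Agent.An.H579.RetDef
import Groth.Agent.An.H869.OneVar
import Groth.Agent.An.H869.PolyGrowth
import Mathlib.RingTheory.Localization.Away.Basic
import Mathlib.RingTheory.Localization.Ideal
import Mathlib.Algebra.Polynomial.Splits
import Mathlib.Analysis.Complex.Polynomial.Basic
import Mathlib.Analysis.Calculus.Deriv.Polynomial
import Mathlib.RingTheory.Localization.Submodule
import Mathlib.RingTheory.Polynomial.Basic
import Mathlib.RingTheory.PrincipalIdealDomain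

/-!
# The localization of `ℂ[X]` at `∏ s ∈ S, (X - C s)` and functions of moderate growth
-/

set_option autoImplicit false

open Set Topology Metric Polynomial

namespace Groth.Agent.An.H579.RetCov

open Groth.Agent.An.H869.PolyGrowth

/-- `∏ s ∈ S, (X - C s)` -/
noncomputable def PS (S : Finset ℂ) : ℂ[X] := ∏ s ∈ S, (X - C s)

lemma eval_PS (S : Finset ℂ) (z : ℂ) : (PS S).eval z = ∏ s ∈ S, (z - s) := by
  simp [PS, eval_prod]

lemma eval_PS_ne_zero {S : Finset ℂ} {z : ℂ} : (PS S).eval z ≠ 0 ↔ z ∉ S := by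
  rw [eval_PS, Finset.prod_ne_zero_iff]
  constructor
  · intro h hz
    exact h z hz (sub_self z)
  · intro h s hs h0
    rw [sub_eq_zero] at h0
    exact h (h0 ▸ hs)

lemma PS_ne_zero (S : Finset ℂ) : PS S ≠ 0 :=
  Finset.prod_ne_zero_iff.2 fun s _ => X_sub_C_ne_zero s

lemma one_le_wt (S : Finset ℂ) (z : ℂ) : 1 ≤ wt S z := by
  unfold wt
  have h1 : (1 : ℝ) ≤ 1 + ‖z‖ := by linarith [norm_nonneg z]
  have h2 : (1 : ℝ) ≤ ∏ s ∈ S, (1 + ‖z - s‖⁻¹) :=
    Finset.one_le_prod fun s _ => by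
      have := inv_nonneg.2 (norm_nonneg (z - s))
      linarith
  calc (1 : ℝ) = 1 * 1 := (mul_one 1).symm
    _ ≤ _ := by gcongr

lemma mod_iff {Y : Type} {S : Finset ℂ} {p : Y → ℂ} {F : Y → ℂ} :
    Mod S p F ↔ PG (fun y => wt S (p y)) F := by
  constructor
  · rintro ⟨K, N, hK⟩
    refine ⟨|K|, N, abs_nonneg K, fun y => (hK y).trans ?_⟩
    have : (0 : ℝ) ≤ wt S (p y) := by linarith [one_le_wt S (p y)]
    gcongr
    exact le_abs_self K
  · rintro ⟨K, N, -, hK⟩
    exact ⟨K, N, hK⟩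

lemma wt_mul_le (S : Finset ℂ) {z : ℂ} (hz : z ∉ S) :
    wt S z * ‖(PS S).eval z‖ ≤ (∏ s ∈ S, (1 + ‖s‖)) * (1 + ‖z‖) ^ (S.card + 1) := by
  rw [eval_PS, norm_prod, wt, mul_assoc, ← Finset.prod_mul_distrib]
  have h1 : ∏ s ∈ S, ((1 + ‖z - s‖⁻¹) * ‖z - s‖) ≤ ∏ s ∈ S, ((1 + ‖s‖) * (1 + ‖z‖)) := by
    refine Finset.prod_le_prod (fun s _ => by positivity) fun s hs => ?_
    have h2 : z - s ≠ 0 := fun h0 => hz ((sub_eq_zero.1 h0) ▸ hs)
    rw [add_mul, one_mul, inv_mul_cancel₀ (norm_ne_zero_iff.2 h2)]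
    have h3 : ‖z - s‖ ≤ ‖z‖ + ‖s‖ := norm_sub_le _ _
    nlinarith [norm_nonneg z, norm_nonneg s, mul_nonneg (norm_nonneg z) (norm_nonneg s)]
  rw [Finset.prod_mul_distrib (f := fun s => 1 + ‖s‖), Finset.prod_const] at h1
  calc (1 + ‖z‖) * ∏ s ∈ S, ((1 + ‖z - s‖⁻¹) * ‖z - s‖)
      ≤ (1 + ‖z‖) * ((∏ s ∈ S, (1 + ‖s‖)) * (1 + ‖z‖) ^ S.card) := by gcongr
    _ = _ := by rw [pow_succ]; ring

/-- A holomorphic function on `ℂ ∖ S` of moderate growth is of the form `P / PS ^ N`. -/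
theorem exists_rational (S : Finset ℂ) (f : ℂ → ℂ) (hf : ∀ z, z ∉ S → DifferentiableAt ℂ f z)
    (K : ℝ) (N : ℕ) (hK : ∀ z, z ∉ S → ‖f z‖ ≤ K * wt S z ^ N) :
    ∃ P : ℂ[X], ∀ z, z ∉ S → f z * ((PS S).eval z) ^ N = P.eval z := by
  obtain ⟨P, -, hP⟩ := Groth.Agent.An.H869.OneVar.exists_polynomial_of_growth_off_finset S
    (fun z => f z * ((PS S).eval z) ^ N)
    (fun z hz => (hf z hz).mul ((PS S).differentiable.differentiableAt.pow N))
    (|K| * (∏ s ∈ S, (1 + ‖s‖)) ^ N) ((S.card + 1) * N) (fun z hz => by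
      have h0 : (0 : ℝ) ≤ wt S z := by linarith [one_le_wt S z]
      calc ‖f z * ((PS S).eval z) ^ N‖ = ‖f z‖ * ‖(PS S).eval z‖ ^ N := by
            rw [norm_mul, norm_pow]
        _ ≤ (|K| * wt S z ^ N) * ‖(PS S).eval z‖ ^ N := by
            gcongr
            refine (hK z hz).trans ?_
            gcongr
            exact le_abs_self K
        _ = |K| * (wt S z * ‖(PS S).eval z‖) ^ N := by rw [mul_pow]; ring
        _ ≤ |K| * ((∏ s ∈ S, (1 + ‖s‖)) * (1 + ‖z‖) ^ (S.card + 1)) ^ N := by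
            have h1 := wt_mul_le S hz
            have h2 : 0 ≤ wt S z * ‖(PS S).eval z‖ := by positivity
            exact mul_le_mul_of_nonneg_left (pow_le_pow_left₀ h2 h1 N) (abs_nonneg K)
        _ = _ := by rw [mul_pow, ← pow_mul]; ring)
  exact ⟨P, hP⟩

section Loc

variable (S : Finset ℂ) (A : Type*) [CommRing A] [Algebra ℂ[X] A] [IsLocalization.Away (PS S) A]

/-- evaluation at a point of `ℂ ∖ S` -/
noncomputable def ev (z : ℂ) (hz : z ∉ S) : A →+* ℂ :=
  IsLocalization.Away.lift (PS S) (g := evalRingHom z)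
    (isUnit_iff_ne_zero.2 (by simpa using eval_PS_ne_zero.2 hz))

@[simp] lemma ev_algebraMap (z : ℂ) (hz : z ∉ S) (P : ℂ[X]) :
    ev S A z hz (algebraMap ℂ[X] A P) = P.eval z := by
  unfold ev
  rw [IsLocalization.Away.lift_eq]
  rfl

variable {A} in
include S in
lemma exists_mul_pow (a : A) : ∃ (n : ℕ) (P : ℂ[X]),
    a * algebraMap ℂ[X] A (PS S) ^ n = algebraMap ℂ[X] A P := by
  obtain ⟨n, P, h⟩ := IsLocalization.Away.surj (PS S) a
  exact ⟨n, P, h⟩

lemma infinite_compl : {z : ℂ | z ∉ S}.Infinite := S.finite_toSet.infinite_compl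

variable {S} in
lemma exists_notMem : ∃ z : ℂ, z ∉ S := (infinite_compl S).nonempty

variable {A} in
lemma ev_ext {a b : A} (h : ∀ z hz, ev S A z hz a = ev S A z hz b) : a = b := by
  have key : ∀ c : A, (∀ z hz, ev S A z hz c = 0) → c = 0 := by
    intro c hc
    obtain ⟨n, P, hP⟩ := exists_mul_pow S c
    have h0 : P = 0 := by
      refine Polynomial.eq_zero_of_infinite_isRoot P ((infinite_compl S).mono fun z hz => ?_)
      have := congrArg (ev S A z hz) hP
      rw [map_mul, hc z hz, zero_mul, ev_algebraMap] at this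
      exact this.symm
    rw [h0, map_zero] at hP
    have hu : IsUnit (algebraMap ℂ[X] A (PS S) ^ n) :=
      (IsLocalization.Away.algebraMap_isUnit (PS S)).pow n
    exact (hu.mul_left_eq_zero).1 hP
  rw [← sub_eq_zero]
  refine key _ fun z hz => ?_
  rw [map_sub, h z hz, sub_self]

/-- every holomorphic function of moderate growth comes from `A` -/
theorem exists_ev_eq (f : ℂ → ℂ) (hf : ∀ z, z ∉ S → DifferentiableAt ℂ f z)
    (K : ℝ) (N : ℕ) (hK : ∀ z, z ∉ S → ‖f z‖ ≤ K * wt S z ^ N) :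
    ∃ a : A, ∀ z hz, ev S A z hz a = f z := by
  obtain ⟨P, hP⟩ := exists_rational S f hf K N hK
  obtain ⟨u, hu⟩ := (IsLocalization.Away.algebraMap_isUnit (S := A) (PS S)).pow N
  refine ⟨↑(u⁻¹) * algebraMap ℂ[X] A P, fun z hz => ?_⟩
  have h1 : ev S A z hz (u : A) = ((PS S).eval z) ^ N := by
    rw [hu, map_pow, ev_algebraMap]
  have h2 : ev S A z hz (u : A) * ev S A z hz (↑(u⁻¹) * algebraMap ℂ[X] A P) = P.eval z := by
    rw [← map_mul, ← mul_assoc, Units.mul_inv, one_mul, ev_algebraMap]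
  rw [h1, ← hP z hz, mul_comm (f z)] at h2
  exact mul_left_cancel₀ (pow_ne_zero N (eval_PS_ne_zero.2 hz)) h2

variable {A} in
/-- an ideal without common zeros is the unit ideal -/
theorem one_mem_of_forall (I : Ideal A) (hI : ∀ z hz, ∃ d ∈ I, ev S A z hz d ≠ 0) :
    (1 : A) ∈ I := by
  -- a generator of the intersection with `ℂ[X]`
  obtain ⟨G, hG⟩ := IsPrincipalIdealRing.principal (I.comap (algebraMap ℂ[X] A))
  rw [Ideal.submodule_span_eq] at hG
  have hmem : ∀ P : ℂ[X], algebraMap ℂ[X] A P ∈ I ↔ G ∣ P := by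
    intro P
    rw [← Ideal.mem_span_singleton, ← hG, Ideal.mem_comap]
  have hroot : ∀ z, z ∉ S → G.eval z ≠ 0 := by
    intro z hz h0
    obtain ⟨d, hd, hne⟩ := hI z hz
    obtain ⟨n, P, hP⟩ := exists_mul_pow S d
    have h1 : G ∣ P := by
      rw [← hmem, ← hP]
      exact I.mul_mem_right _ hd
    have h2 := congrArg (ev S A z hz) hP
    rw [ev_algebraMap, map_mul, map_pow, ev_algebraMap] at h2
    obtain ⟨Q, rfl⟩ := h1
    rw [eval_mul, h0, zero_mul] at h2
    exact mul_ne_zero hne (pow_ne_zero n (eval_PS_ne_zero.2 hz)) h2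
  have hG0 : G ≠ 0 := by
    rintro rfl
    obtain ⟨z, hz⟩ := exists_notMem (S := S)
    exact hroot z hz (by simp)
  have hu : IsUnit (algebraMap ℂ[X] A G) := by
    have hs := IsAlgClosed.splits G
    rw [hs.eq_prod_roots, map_mul, map_multiset_prod, Multiset.map_map]
    refine IsUnit.mul ?_ ?_
    · exact ((Polynomial.isUnit_C.2 (isUnit_iff_ne_zero.2
        (leadingCoeff_ne_zero.2 hG0))).map (algebraMap ℂ[X] A))
    · refine Multiset.prod_induction IsUnit _ (fun a b ha hb => ha.mul hb) isUnit_one ?_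
      intro a ha
      obtain ⟨r, hr, rfl⟩ := Multiset.mem_map.1 ha
      have hrS : r ∈ S := by
        by_contra hrS
        exact hroot r hrS ((mem_roots hG0).1 hr)
      have hdvd : (X - C r) ∣ PS S := Finset.dvd_prod_of_mem _ hrS
      exact isUnit_of_dvd_unit ((algebraMap ℂ[X] A).map_dvd hdvd)
        (IsLocalization.Away.algebraMap_isUnit (PS S))
  have : I = ⊤ := I.eq_top_of_isUnit_mem ((hmem G).2 dvd_rfl) hu
  rw [this]
  trivial

include S in
lemma isNoetherianRing_loc : IsNoetherianRing A :=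
  IsLocalization.isNoetherianRing (Submonoid.powers (PS S)) A (inferInstance : IsNoetherianRing ℂ[X])

end Loc

end Groth.Agent.An.H579.RetCov
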