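import Groth.Agent.An.H579.RetCov
import Mathlib.MeasureTheory.Measure.Lebesgue.EqHaar
import Mathlib.MeasureTheory.Measure.Lebesgue.Complex
import Mathlib.Analysis.Complex.OperatorNorm
import Mathlib.LinearAlgebra.Complex.FiniteDimensional

/-!
# The star-shaped complement of finitely many rays
-/

set_option autoImplicit false

open Set Topology Metric MeasureTheory

namespace Groth.Agent.An.H579.RetStar

/-- the ray from `s` to infinity, away from `b` -/
def ray (b s : ℂ) : Set ℂ := (fun t : ℝ => b + t • (s - b)) '' Ici 1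

lemma isClosed_ray (b s : ℂ) (hs : s ≠ b) : IsClosed (ray b s) := by
  have h1 : IsClosedMap (fun t : ℝ => t • (s - b)) :=
    (isClosedEmbedding_smul_left (sub_ne_zero.2 hs)).isClosedMap
  have h2 : IsClosedMap (fun x : ℂ => b + x) := (Homeomorph.addLeft b).isClosedMap
  have := (h2.comp h1) _ (isClosed_Ici (a := (1 : ℝ)))
  exact this

lemma self_mem_ray (b s : ℂ) : s ∈ ray b s := ⟨1, self_mem_Ici, by simp⟩

lemma notMem_ray (b s : ℂ) (hs : s ≠ b) : b ∉ ray b s := by
  rintro ⟨t, ht, h⟩
  have h1 : t • (s - b) = 0 := by simpa using h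
  rcases smul_eq_zero.1 h1 with h2 | h2
  · rw [mem_Ici, h2] at ht
    norm_num at ht
  · exact hs (sub_eq_zero.1 h2)

lemma volume_ray (b s : ℂ) : volume (ray b s) = 0 := by
  have h1 : ray b s ⊆ (AffineSubspace.mk' b (Submodule.span ℝ {s - b}) : Set ℂ) := by
    rintro _ ⟨t, -, rfl⟩
    simp only [SetLike.mem_coe, AffineSubspace.mem_mk', vsub_eq_sub, add_sub_cancel_left]
    exact Submodule.smul_mem _ _ (Submodule.mem_span_singleton_self _)
  refine measure_mono_null h1 (Measure.addHaar_affineSubspace _ _ ?_)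
  intro h
  have h2 : (AffineSubspace.mk' b (Submodule.span ℝ {s - b})).direction = ⊤ := by
    rw [h, AffineSubspace.direction_top]
  rw [AffineSubspace.direction_mk'] at h2
  have h3 : Module.finrank ℝ (Submodule.span ℝ {s - b}) ≤ 1 :=
    (finrank_span_le_card ({s - b} : Set ℂ)).trans (by simp)
  rw [h2, finrank_top, Complex.finrank_real_complex] at h3
  omega

/-- the complement of the rays through the points of `S` -/
def Om (S : Set ℂ) (b : ℂ) : Set ℂ := (⋃ s ∈ S, ray b s)ᶜ

variable {S : Set ℂ} {b : ℂ}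

lemma isOpen_Om (hS : S.Finite) (hb : b ∉ S) : IsOpen (Om S b) :=
  (hS.isClosed_biUnion fun s hs => isClosed_ray b s (fun e => hb (e ▸ hs))).isOpen_compl

lemma Om_subset : Om S b ⊆ Sᶜ := by
  intro z hz hzS
  exact hz (mem_biUnion hzS (self_mem_ray b z))

lemma mem_Om (hb : b ∉ S) : b ∈ Om S b := by
  intro h
  obtain ⟨s, hs, h⟩ := mem_iUnion₂.1 h
  exact notMem_ray b s (fun e => hb (e ▸ hs)) h

lemma ae_mem_Om (hS : S.Finite) : ∀ᵐ z : ℂ, z ∈ Om S b := by
  rw [ae_iff]
  have : {z | ¬ z ∈ Om S b} = ⋃ s ∈ S, ray b s := by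
    ext z
    simp [Om]
  rw [this]
  exact (measure_biUnion_null_iff hS.countable).2 fun s _ => volume_ray b s

lemma starConvex_Om (hb : b ∉ S) : StarConvex ℝ b (Om S b) := by
  rw [starConvex_iff_forall_pos]
  intro z hz a c ha hc hac h
  obtain ⟨s, hs, t, ht, h⟩ := mem_iUnion₂.1 h
  apply hz
  refine mem_biUnion hs ⟨t / c, ?_, ?_⟩
  · rw [mem_Ici] at ht ⊢
    rw [le_div_iff₀ hc]
    linarith
  · have ha' : a = 1 - c := by linarith
    have h1 : b + t • (s - b) = a • b + c • z := h
    have h2 : t • (s - b) = c • (z - b) := by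
      have : t • (s - b) = a • b + c • z - b := by rw [← h1]; ring
      rw [this, ha', sub_smul, smul_sub, one_smul]
      ring
    have h3 : (t / c) • (s - b) = z - b := by
      rw [div_eq_inv_mul, mul_smul, h2, smul_smul, inv_mul_cancel₀ hc.ne', one_smul]
    change b + (t / c) • (s - b) = z
    rw [h3]
    ring
  · exact mem_Om hb

lemma isSimplyConnected_Om (hb : b ∉ S) : IsSimplyConnected (Om S b) := by
  have := (starConvex_Om hb).contractibleSpace ⟨b, mem_Om hb⟩
  exact (inferInstance : SimplyConnectedSpace (Om S b))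

end Groth.Agent.An.H579.RetStar
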